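import Cfsg.Agent.Lib.Crit5.Pure.Lone

/-!
# Section P of the single fixed point criterion: the involutions of `L₃(2)`

An involution fixes exactly a plane of the vectors, spanned by its value of the cocycle and by a
vector of the form `w * g • w`.
-/

set_option autoImplicit false
set_option linter.style.haveILetI false

namespace Cfsg.Agent.Lib.Crit5.Pure.Lone

universe u w

variable {Λ : Type u} {E : Type w} [Group Λ] [CommGroup E] [MulDistribMulAction Λ E]
  {v : Λ → E} {C : Subgroup Λ} {f : Λ} {e₀ : E} (L : Lone v C f 3 e₀)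
include L

theorem exists_invol : ∃ g : Λ, g * g = 1 ∧ g ≠ 1 := by
  haveI := L.finite
  by_contra! hall
  haveI : IsEmpty {z : Λ // z * z = 1 ∧ z ≠ 1} := ⟨fun z => z.2.2 (hall z z.2.1)⟩
  have h := L.card_invol
  rw [Nat.card_of_isEmpty] at h
  norm_num at h

/-- The fixed vectors of an involution. -/
theorem plane {g : Λ} (hg : g * g = 1) (h1 : g ≠ 1) :
    v g ≠ 1 ∧ g • v g = v g ∧ ∃ w c : E, w * g • w = c ∧ g • c = c ∧ c ≠ 1 ∧ c ≠ v g ∧
      ∀ u : E, g • u = u → u = 1 ∨ u = v g ∨ u = c ∨ u = v g * c := by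
  classical
  haveI := L.finite
  have T := L.twist
  haveI := T.finite_space
  haveI := Fintype.ofFinite E
  refine ⟨L.v_invol_ne hg h1, L.smul_v_of_invol hg, ?_⟩
  obtain ⟨w, hw⟩ : ∃ w : E, g • w ≠ w := by
    by_contra! h
    exact h1 (T.eq_one g h)
  have hc1 : w * g • w ≠ 1 := fun h => hw (by
    rw [mul_eq_one_iff_inv_eq, T.inv_self] at h; exact h.symm)
  have hgc : g • (w * g • w) = w * g • w := by
    rw [smul_mul', smul_smul, hg, one_smul, mul_comm]
  have hcd : w * g • w ≠ v g := by
    intro h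
    obtain ⟨k, hk⟩ := T.surj w
    have hsq : k⁻¹ * g * k * (k⁻¹ * g * k) = 1 := by
      rw [show k⁻¹ * g * k * (k⁻¹ * g * k) = k⁻¹ * (g * g) * k by group, hg]; group
    refine L.v_invol_ne hsq (fun h' => h1 ?_) ?_
    · calc g = k * (k⁻¹ * g * k) * k⁻¹ := by group
        _ = 1 := by rw [h']; group
    · rw [T.cocycle, T.cocycle, T.v_inv, hk, mul_smul, ← smul_mul', ← smul_mul', ← h,
        ← mul_assoc w w, T.mul_self, one_mul, T.mul_self, smul_one]
  refine ⟨w, _, rfl, hgc, hc1, hcd, fun u hu => ?_⟩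
  by_contra! hne
  obtain ⟨hu1, hud, huc, hudc⟩ := hne
  let H : Subgroup E :=
    { carrier := {e | g • e = e}
      one_mem' := smul_one g
      mul_mem' := fun {a b} (ha : g • a = a) (hb : g • b = b) => show g • (a * b) = a * b by
        rw [smul_mul', ha, hb]
      inv_mem' := fun {a} ha => by rwa [T.inv_self] }
  have hdH : v g ∈ H := L.smul_v_of_invol hg
  have hd1 : v g ≠ 1 := L.v_invol_ne hg h1
  have hdc1 : v g * (w * g • w) ≠ 1 := fun h => hcd (by
    rw [mul_eq_one_iff_inv_eq, T.inv_self] at h; exact h.symm)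
  have hsub : ({1, v g, w * g • w, v g * (w * g • w), u} : Finset E) ⊆
      Finset.univ.filter fun e => e ∈ H := by
    intro e he
    simp only [Finset.mem_insert, Finset.mem_singleton] at he
    refine Finset.mem_filter.2 ⟨Finset.mem_univ _, ?_⟩
    rcases he with rfl | rfl | rfl | rfl | rfl
    exacts [one_mem H, hdH, hgc, mul_mem hdH hgc, hu]
  have h5 := Finset.card_le_card hsub
  rw [Finset.card_insert_of_notMem, Finset.card_insert_of_notMem, Finset.card_insert_of_notMem,
    Finset.card_insert_of_notMem, Finset.card_singleton, ← Fintype.card_subtype,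
    ← Nat.card_eq_fintype_card] at h5
  · have hdvd : Nat.card H ∣ 2 ^ 3 := L.card ▸ Subgroup.card_subgroup_dvd_card H
    change 1 + 1 + 1 + 1 + 1 ≤ Nat.card H at h5
    obtain ⟨j, hj, hjc⟩ := (Nat.dvd_prime_pow Nat.prime_two).1 hdvd
    have hj3 : j = 3 := by
      interval_cases j <;> simp_all
    have htop : H = ⊤ := Subgroup.eq_top_of_card_eq H (by rw [hjc, hj3, L.card])
    exact hw (show w ∈ H by rw [htop]; exact Subgroup.mem_top w)
  · simpa using hudc.symm
  · simp only [Finset.mem_insert, Finset.mem_singleton, not_or]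
    exact ⟨fun h => hd1 (mul_eq_right.1 h.symm), huc.symm⟩
  · simp only [Finset.mem_insert, Finset.mem_singleton, not_or]
    exact ⟨hcd.symm, fun h => hc1 (left_eq_mul.1 h), hud.symm⟩
  · simp only [Finset.mem_insert, Finset.mem_singleton, not_or]
    exact ⟨hd1.symm, hc1.symm, hdc1.symm, hu1.symm⟩

end Cfsg.Agent.Lib.Crit5.Pure.Lone
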