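import Cfsg.Agent.Lib.Crit5.Pure.Setting
import Cfsg.Agent.Lib.Crit5.Pure.Plane

/-!
# Section P of the single fixed point criterion: the linear group read in `G`

`q = 8`, there is a `3`-element centralising `x` and one member only, elements centralising `x`
act with odd order on the members, and there are elements acting as involutions, with a plane of
fixed members.
-/

set_option autoImplicit false
set_option linter.style.haveILetI false
set_option linter.unusedSectionVars false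

namespace Cfsg.Agent.Lib.Crit5.Pure.Setting

open MulAction Cfsg.Agent.Lib.Involutions.Basic

universe u

variable {G Ω : Type u} [Group G] [MulAction G Ω] [Finite G]
variable {D : Set G} {x : G} {a : Ω} {q e r : ℕ} (S : Setting D x a q e r)
include S

theorem exists_lone : ∃ (f : S.Lam) (w₀ : S.eGrp), @Lone S.Lam S.eGrp _ S.eComm
    (MulDistribMulAction.compHom S.eGrp S.Lam.subtype) S.vL S.cGrp f 3 w₀ := by
  letI := S.eComm
  letI : MulDistribMulAction S.Lam S.eGrp := MulDistribMulAction.compHom S.eGrp S.Lam.subtype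
  exact S.isTwist.linear

theorem commute_iff_fix (s : S.nGrp) {d : G} (hd : d ∈ S.eGrp) :
    Commute (s : G) d ↔ S.rho s ⟨d, hd⟩ = ⟨d, hd⟩ := by
  rw [Subtype.ext_iff, rho_apply]
  exact ⟨fun h => mul_inv_eq_iff_eq_mul.2 h.eq, fun h => mul_inv_eq_iff_eq_mul.1 h⟩

theorem q_eq : q = 8 := by
  letI := S.eComm
  letI : MulDistribMulAction S.Lam S.eGrp := MulDistribMulAction.compHom S.eGrp S.Lam.subtype
  obtain ⟨f, w₀, L⟩ := S.exists_lone
  exact (S.card_eGrp.symm.trans L.card).trans (by norm_num)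

theorem exists_three : ∃ (F d₀ : G) (i : ℕ), F • a = a ∧ Commute F x ∧ F ^ 3 ^ i = 1 ∧
    d₀ ∈ memCent D x a ∧ (∀ d ∈ memCent D x a, Commute F d ↔ d = d₀) ∧
      ∀ s ∈ S.nGrp, Commute s F → Commute s x := by
  letI := S.eComm
  letI : MulDistribMulAction S.Lam S.eGrp := MulDistribMulAction.compHom S.eGrp S.Lam.subtype
  obtain ⟨f, w₀, L⟩ := S.exists_lone
  obtain ⟨s, hs⟩ := S.rho.rangeRestrict_surjective f
  obtain ⟨i, m, hm, hsm⟩ :=
    Nat.exists_eq_pow_mul_and_not_dvd (orderOf_pos s).ne' 3 (by norm_num)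
  obtain ⟨u, hu⟩ := Nat.exists_mul_mod_eq_one_of_coprime
    ((Nat.prime_three.coprime_iff_not_dvd.2 hm).symm) (by norm_num)
  have hfp : f ^ (m * u) = f := by
    rw [← Nat.mod_add_div (m * u) 3, hu.2, pow_add, pow_mul, L.pow_p, one_pow, mul_one, pow_one]
  set F : S.nGrp := s ^ (m * u)
  have hF : S.rho.rangeRestrict F = f := by rw [map_pow, hs, hfp]
  have hFx : Commute (F : G) x := by
    rw [← S.vOf_eq_one_iff, ← S.vL_eq, hF]
    exact L.fixed
  have hne : (w₀ : G) ≠ 1 := fun h => L.vec_ne (Subtype.ext h)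
  refine ⟨F, w₀, i, S.nGrp_fix F, hFx, ?_, S.cent_of_ne w₀.2 hne, fun d hd => ?_,
    fun g hg hgF => ?_⟩
  · rw [← Subgroup.coe_pow]
    have h1 : F ^ 3 ^ i = 1 := by
      rw [← pow_mul, show m * u * 3 ^ i = 3 ^ i * m * u by ring, pow_mul, ← hsm,
        pow_orderOf_eq_one, one_pow]
    rw [h1, Subgroup.coe_one]
  · rw [S.commute_iff_fix F (S.cent_mem hd)]
    have hsmul : S.rho F ⟨d, S.cent_mem hd⟩ = f • (⟨d, S.cent_mem hd⟩ : S.eGrp) := by
      rw [← hF]; rfl
    rw [hsmul]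
    refine ⟨fun h => ?_, ?_⟩
    · rcases L.only _ h with h1 | h1
      · exact absurd (congrArg Subtype.val h1) (invol_ne_one (S.pre.invol _ hd.1.1))
      · exact congrArg Subtype.val h1
    · intro h
      rw [show (⟨d, S.cent_mem hd⟩ : S.eGrp) = w₀ from Subtype.ext h]
      exact L.fix
  · refine (S.vOf_eq_one_iff ⟨g, hg⟩).1 ?_
    rw [← S.vL_eq]
    refine L.cent _ ?_
    rw [← hF, ← map_mul, ← map_mul]
    exact congrArg S.rho.rangeRestrict (Subtype.ext hgF.eq)

/-- Of two-power order on the members, an element centralising `x` centralises them. -/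
theorem commute_of_sq {s : G} (hs : s ∈ S.nGrp) (hsx : Commute s x)
    (hsq : ∀ d ∈ memCent D x a, Commute (s * s) d) : ∀ d ∈ memCent D x a, Commute s d := by
  letI := S.eComm
  letI : MulDistribMulAction S.Lam S.eGrp := MulDistribMulAction.compHom S.eGrp S.Lam.subtype
  obtain ⟨f, w₀, L⟩ := S.exists_lone
  refine (S.rho_eq_one_iff ⟨s, hs⟩).1 (congrArg Subtype.val
    (show S.rho.rangeRestrict ⟨s, hs⟩ = 1 from ?_) :)
  by_contra hne
  refine L.v_invol_ne ?_ hne ?_
  · rw [← map_mul]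
    exact Subtype.ext ((S.rho_eq_one_iff ((⟨s, hs⟩ : S.nGrp) * (⟨s, hs⟩ : S.nGrp))).2 hsq :)
  · rw [S.vL_eq, S.vOf_eq_one_iff]
    exact hsx

theorem exists_moving : ∃ s ∈ S.nGrp, (¬ ∀ d ∈ memCent D x a, Commute s d) ∧
    ∀ d ∈ memCent D x a, Commute (s * s) d := by
  letI := S.eComm
  letI : MulDistribMulAction S.Lam S.eGrp := MulDistribMulAction.compHom S.eGrp S.Lam.subtype
  obtain ⟨f, w₀, L⟩ := S.exists_lone
  obtain ⟨g, hg, hg1⟩ := L.exists_invol
  obtain ⟨s, rfl⟩ := S.rho.rangeRestrict_surjective g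
  refine ⟨s, s.2, fun h => hg1 (Subtype.ext ((S.rho_eq_one_iff s).2 h)), ?_⟩
  rw [← map_mul] at hg
  exact (S.rho_eq_one_iff (s * s)).1 (congrArg Subtype.val hg)

/-- The members fixed by an element acting as an involution. -/
theorem plane_of {s : G} (hs : s ∈ S.nGrp) (hne : ¬ ∀ d ∈ memCent D x a, Commute s d)
    (hsq : ∀ d ∈ memCent D x a, Commute (s * s) d) :
    ∃ d c w : G, d = x * (s * x * s⁻¹) ∧ d ∈ memCent D x a ∧ c ∈ memCent D x a ∧ w ∈ S.eGrp ∧
      w * (s * w * s⁻¹) = c ∧ Commute s d ∧ Commute s c ∧ c ≠ d ∧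
      ∀ u ∈ S.eGrp, Commute s u → u = 1 ∨ u = d ∨ u = c ∨ u = d * c := by
  letI := S.eComm
  letI : MulDistribMulAction S.Lam S.eGrp := MulDistribMulAction.compHom S.eGrp S.Lam.subtype
  obtain ⟨f, w₀, L⟩ := S.exists_lone
  set g := S.rho.rangeRestrict ⟨s, hs⟩
  have hg : g * g = 1 := by
    rw [← map_mul]
    exact Subtype.ext ((S.rho_eq_one_iff ((⟨s, hs⟩ : S.nGrp) * (⟨s, hs⟩ : S.nGrp))).2 hsq :)
  have hg1 : g ≠ 1 := fun h => hne ((S.rho_eq_one_iff ⟨s, hs⟩).1 (congrArg Subtype.val h))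
  obtain ⟨hd1, hgd, w, c, hwc, hgc, hc1, hcd, hall⟩ := L.plane hg hg1
  have hv : ((S.vL g : S.eGrp) : G) = x * (s * x * s⁻¹) := by rw [S.vL_eq]; rfl
  have hfix : ∀ z : S.eGrp, g • z = z ↔ Commute s (z : G) := fun z =>
    (S.commute_iff_fix ⟨s, hs⟩ z.2).symm
  refine ⟨_, c, w, hv, ?_, S.cent_of_ne c.2 fun h => hc1 (Subtype.ext h),
    w.2, congrArg Subtype.val hwc, ?_, (hfix c).1 hgc, ?_, fun u hu hsu => ?_⟩
  · exact S.cent_of_ne (S.vL g).2 fun h => hd1 (Subtype.ext h)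
  · exact (hfix _).1 hgd
  · exact fun h => hcd (Subtype.ext h)
  · rcases hall ⟨u, hu⟩ ((hfix _).2 hsu) with h | h | h | h
    exacts [Or.inl (congrArg Subtype.val h :), Or.inr (Or.inl (congrArg Subtype.val h :)),
      Or.inr (Or.inr (Or.inl (congrArg Subtype.val h :))),
      Or.inr (Or.inr (Or.inr (congrArg Subtype.val h :)))]

end Cfsg.Agent.Lib.Crit5.Pure.Setting
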