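import Cfsg.Agent.Lib.Crit5.Pure.TwoPart

/-!
# Section P of the single fixed point criterion: the three types

`e = 1`: a moving `2`-element times a suitable element is an involution moving the members.
`e = 2`: the squaring map of the translation group would be linear.  `e = 3`: a Sylow `3`-subgroup
of the kernel centralises a proper group of members whose point stabiliser the moving element
normalises.
-/

set_option autoImplicit false
set_option linter.style.haveILetI false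
set_option linter.unusedSectionVars false

namespace Cfsg.Agent.Lib.Crit5.Pure.Setting

open MulAction Cfsg.Agent.Lib.Involutions.Basic
open Cfsg.Agent.Lib.Crit8 (Pre Action Bad memAt memSwap loc)
open Cfsg.Agent.Lib.Crit5.Shape

universe u

variable {G Ω : Type u} [Group G] [MulAction G Ω] [Finite G] {D : Set G}
variable {x : G} {a : Ω} {q e r : ℕ} (S : Setting D x a q e r)
include S

theorem false_one (he : e = 1) : False := by
  haveI := S.min.faithful
  haveI : Fact (Nat.Prime 2) := ⟨Nat.prime_two⟩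
  obtain ⟨P₀, P, hT, hle⟩ := S.exists_frame
  have he3 : e ≠ 3 := by omega
  have hcard : Nat.card P₀ = 8 := by
    have h := hT.card
    rw [S.card_orbit_eq, he] at h
    omega
  have hP₀ : S.eGrp = P₀ := Subgroup.eq_of_le_of_card_ge (fun w hw => S.mem_of_eGrp hT hw)
    (by rw [hcard, S.card_eGrp, S.q_eq])
  have hZ : ∀ g ∈ P₀, (∀ h ∈ P₀, Commute g h) → g ∈ S.eGrp := fun g hg _ => hP₀.symm ▸ hg
  obtain ⟨t, i, ht, hti, hne, hsq, hN⟩ := S.exists_moving_normalising P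
  obtain ⟨d, c, w, hd, hdB, hcB, hw, hwc, -, -, -, hall⟩ := S.plane_of ht hne hsq
  have hta : t • a = a := S.nGrp_fix ⟨t, ht⟩
  -- what `t` fixes in the Sylow subgroup lies in `eGrp`
  have hfixed : ∀ u ∈ S.pG P, Commute t u → u ∈ S.eGrp := by
    intro u hu htu
    obtain ⟨g, hg, h, hh, hh1, rfl⟩ := S.exists_decomp he3 hT hle hu
    have hgE : g ∈ S.eGrp := hP₀.symm ▸ hg
    have hgh := S.commute_triv he3 hT hle hg hh hh1
    have h2 : g * h * (g * h) = 1 := by
      rw [show g * h * (g * h) = g * (h * g) * h by group, ← hgh.eq,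
        show g * (g * h) * h = (g * g) * (h * h) by group, S.sq_one hgE,
        (S.triv_sq he3 hT hle ht hti hne hsq hN hZ hh hh1).1, one_mul]
    by_cases h1 : g * h = 1
    · rw [h1]; exact one_mem _
    have ha : (g * h) • a = a := (S.mem_tGrp.1 (S.pG_le P hu)).1
    rcases S.pre.mem_or_bad (invol_iff.2 ⟨h2, h1⟩) ha with hD | hb
    · refine S.cent_mem ?_
      rw [← S.memAt_eq]
      exact ⟨hD, ha⟩
    · exact absurd (S.centralises_of_bad hb ha hta htu hti) hne
  have htT := S.sq_mem_tGrp ht hsq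
  have httP : t * t ∈ S.pG P := S.mem_pG_of_normalising P htT (i := i)
    (by rw [(Commute.refl t).mul_pow, hti, one_mul]) (mul_mem hN hN)
  have httE : t * t ∈ S.eGrp := hfixed _ httP ((Commute.refl t).mul_right (Commute.refl t))
  obtain ⟨v, hva, hvB, hv⟩ : ∃ v : G, v • a = a ∧ (∀ f ∈ memCent D x a, Commute v f) ∧
      v * (t * v * t⁻¹) = t * t := by
    have hxB : ∀ f ∈ memCent D x a, Commute x f := fun f hf => hf.2.symm
    have hwB : ∀ f ∈ memCent D x a, Commute w f := fun f hf => S.comm_eGrp hw (S.cent_mem hf)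
    rcases hall (t * t) httE ((Commute.refl t).mul_right (Commute.refl t)) with h | h | h | h
    · exact ⟨1, one_smul G a, fun f _ => Commute.one_left f, by rw [h]; group⟩
    · exact ⟨x, S.fix, hxB, by rw [h, hd]⟩
    · exact ⟨w, S.smul_a hw, hwB, by rw [h, hwc]⟩
    · refine ⟨x * w, by rw [mul_smul, S.smul_a hw, S.fix],
        fun f hf => (hxB f hf).mul_left (hwB f hf), ?_⟩
      have hdx : t * x * t⁻¹ = x * d := by rw [hd, ← mul_assoc, S.x_sq, one_mul]
      have hcw : Commute w (x * d) :=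
        (S.comm_x hw).mul_right (S.comm_eGrp hw (S.cent_mem hdB))
      rw [h, show x * w * (t * (x * w) * t⁻¹) = x * (w * (t * x * t⁻¹)) * (t * w * t⁻¹) by group,
        hdx, hcw.eq, show x * (x * d * w) * (t * w * t⁻¹) = (x * x) * d * (w * (t * w * t⁻¹)) by group,
        S.x_sq, one_mul, hwc]
  have hy : v * t * (v * t) = 1 := by
    rw [show v * t * (v * t) = v * (t * v * t⁻¹) * (t * t) by group, hv, S.sq_one httE]
  have hy' := S.invol_commute hy (by rw [mul_smul, hta, hva])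
  refine hne fun f hf => ?_
  have := (hvB f hf).inv_left.mul_left (hy' f hf)
  rwa [inv_mul_cancel_left] at this

theorem false_two (he : e = 2) : False := by
  haveI := S.min.faithful
  haveI : Fact (Nat.Prime 2) := ⟨Nat.prime_two⟩
  obtain ⟨P₀, P, hT, hle⟩ := S.exists_frame
  have he3 : e ≠ 3 := by omega
  have hcard : Nat.card P₀ = qOf (loc D x) a ^ 2 := by
    have h := hT.card
    rw [S.card_orbit_eq, he] at h
    rw [S.qOf_eight]
    omega
  have hne8 : Nat.card P₀ ≠ qOf (loc D x) a := by rw [hcard, S.qOf_eight]; norm_num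
  have hroot : ∀ d ∈ memCent D x a, ∃ g ∈ P₀, g * g = d := fun d hd =>
    hT.sqrt hne8 d (by rwa [memIn_loc])
  have hcen : ∀ {g w : G}, g ∈ P₀ → w ∈ S.eGrp → Commute g w := fun {g w} hg hw =>
    S.comm_E_of_tGrp (S.pG_le P (hle hg)) hw
  have hd1 : ∀ {d : G}, d ∈ memCent D x a → d ≠ 1 := fun hd => invol_ne_one (S.pre.invol _ hd.1.1)
  -- commuting square roots have equal squares
  have hszc : ∀ {g h d c : G}, g ∈ P₀ → h ∈ P₀ → Commute g h → g * g = d → h * h = c →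
      d ≠ 1 → c ≠ 1 → d = c := by
    intro g h d c hg hh hgh hgd hhc hd hc
    rcases hT.sz_commute hcard g hg h hh hgh with h1 | h1 | h1
    · exact absurd (hgd.symm.trans h1) hd
    · exact absurd (hhc.symm.trans h1) hc
    · have hE := S.mem_eGrp_of_trans hT (mul_mem (inv_mem hg) hh) h1
      rw [← hhc, ← hgd, show h = g * (g⁻¹ * h) by group,
        show g * (g⁻¹ * h) * (g * (g⁻¹ * h)) = g * ((g⁻¹ * h) * g) * (g⁻¹ * h) by group,
        (hcen hg hE).symm.eq, show g * (g * (g⁻¹ * h)) * (g⁻¹ * h) = g * g * ((g⁻¹ * h) * (g⁻¹ * h))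
          by group, h1, mul_one]
  have hZ : ∀ g ∈ P₀, (∀ h ∈ P₀, Commute g h) → g ∈ S.eGrp := by
    intro g hg hall
    by_cases h : g * g = 1
    · exact S.mem_eGrp_of_trans hT hg h
    exfalso
    obtain ⟨d, hd, d', hd', hne', -⟩ := S.fourAt_of (y := 1) fun _ _ => Commute.one_right _
    have hd₁ : d ∈ memCent D x a := by rw [← S.memAt_eq]; exact hd.1
    have hd₂ : d' ∈ memCent D x a := by rw [← S.memAt_eq]; exact hd'.1
    obtain ⟨f, hf, hfd⟩ := hroot d hd₁
    obtain ⟨f', hf', hfd'⟩ := hroot d' hd₂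
    exact hne' ((hszc hg hf (hall f hf) rfl hfd h (hd1 hd₁)).symm.trans
      (hszc hg hf' (hall f' hf') rfl hfd' h (hd1 hd₂)))
  obtain ⟨t, i, ht, hti, hne, hsq, hN⟩ := S.exists_moving_normalising P
  obtain ⟨d, c, w, -, hdB, hcB, -, -, htd, htc, hcd, hall⟩ := S.plane_of ht hne hsq
  obtain ⟨p₁, hp₁, hp₁d⟩ := hroot d hdB
  obtain ⟨p₂, hp₂, hp₂c⟩ := hroot c hcB
  -- `t` moves a root of a fixed member within its coset of `eGrp`
  have hmove : ∀ {g f : G}, g ∈ P₀ → g * g = f → Commute t f → ∃ w ∈ S.eGrp, ∃ h ∈ S.pG P,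
      S.Triv h ∧ t * g * t⁻¹ = g * w * h := by
    intro g f hg hgf htf
    obtain ⟨g', hg', h, hh, hh1, he'⟩ :=
      S.exists_decomp he3 hT hle ((Subgroup.mem_normalizer_iff.1 hN g).1 (hle hg))
    have hgh := S.commute_triv he3 hT hle hg' hh hh1
    have hsq' : g * g = g' * g' := by
      have h1 : t * g * t⁻¹ * (t * g * t⁻¹) = g * g := by
        rw [show t * g * t⁻¹ * (t * g * t⁻¹) = t * (g * g) * t⁻¹ by group, hgf, htf.eq,
          mul_inv_cancel_right]
      rw [he'] at h1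
      rw [← h1, show g' * h * (g' * h) = g' * (h * g') * h by group, ← hgh.eq,
        show g' * (g' * h) * h = g' * g' * (h * h) by group,
        (S.triv_sq he3 hT hle ht hti hne hsq hN hZ hh hh1).1, mul_one]
    refine ⟨g⁻¹ * g', S.mem_eGrp_of_trans hT (mul_mem (inv_mem hg) hg')
      (hT.sz_sq_inj hcard g hg g' hg' hsq'), h, hh, hh1, ?_⟩
    rw [he', mul_inv_cancel_left]
  obtain ⟨w₁, hw₁, h₁, hh₁, hh₁t, he₁⟩ := hmove hp₁ hp₁d htd
  obtain ⟨w₂, hw₂, h₂, hh₂, hh₂t, he₂⟩ := hmove hp₂ hp₂c htc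
  set u := p₁ * p₂ * (p₁ * p₂) with hu
  have hp := mul_mem hp₁ hp₂
  have huE : u ∈ S.eGrp := S.mem_eGrp_of_trans hT (mul_mem hp hp) (hT.sq_mem _ hp)
  have htu : Commute t u := by
    have hw : w₁ * w₂ ∈ S.eGrp := mul_mem hw₁ hw₂
    have hh : h₁ * h₂ ∈ S.pG P := mul_mem hh₁ hh₂
    have hht : S.Triv (h₁ * h₂) := S.triv_mul hh₁t hh₂t
    have hcp : Commute h₁ (p₂ * w₂) :=
      (S.commute_triv he3 hT hle (mul_mem hp₂ (S.mem_of_eGrp hT hw₂)) hh₁ hh₁t).symm
    have heq : t * (p₁ * p₂) * t⁻¹ = p₁ * p₂ * (w₁ * w₂) * (h₁ * h₂) := by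
      rw [show t * (p₁ * p₂) * t⁻¹ = t * p₁ * t⁻¹ * (t * p₂ * t⁻¹) by group, he₁, he₂,
        show p₁ * w₁ * h₁ * (p₂ * w₂ * h₂) = p₁ * w₁ * (h₁ * (p₂ * w₂)) * h₂ by group, hcp.eq,
        show p₁ * w₁ * (p₂ * w₂ * h₁) * h₂ = p₁ * (w₁ * p₂) * w₂ * (h₁ * h₂) by group,
        (hcen hp₂ hw₁).symm.eq]
      group
    have hP' : Commute (h₁ * h₂) (p₁ * p₂ * (w₁ * w₂)) :=
      (S.commute_triv he3 hT hle (mul_mem hp (S.mem_of_eGrp hT hw)) hh hht).symm
    refine mul_inv_eq_iff_eq_mul.1 ?_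
    rw [hu, show t * (p₁ * p₂ * (p₁ * p₂)) * t⁻¹ = t * (p₁ * p₂) * t⁻¹ * (t * (p₁ * p₂) * t⁻¹)
      by group, heq,
      show p₁ * p₂ * (w₁ * w₂) * (h₁ * h₂) * (p₁ * p₂ * (w₁ * w₂) * (h₁ * h₂)) =
        p₁ * p₂ * (w₁ * w₂) * ((h₁ * h₂) * (p₁ * p₂ * (w₁ * w₂))) * (h₁ * h₂) by group, hP'.eq,
      show p₁ * p₂ * (w₁ * w₂) * (p₁ * p₂ * (w₁ * w₂) * (h₁ * h₂)) * (h₁ * h₂) =
        p₁ * p₂ * ((w₁ * w₂) * (p₁ * p₂)) * (w₁ * w₂) * ((h₁ * h₂) * (h₁ * h₂)) by group,
      (S.triv_sq he3 hT hle ht hti hne hsq hN hZ hh hht).1, mul_one, (hcen hp hw).symm.eq,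
      show p₁ * p₂ * (p₁ * p₂ * (w₁ * w₂)) * (w₁ * w₂) =
        p₁ * p₂ * (p₁ * p₂) * ((w₁ * w₂) * (w₁ * w₂)) by group, S.sq_one hw, mul_one]
  rcases hall u huE htu with h | h | h | h
  · -- `p₁ * p₂` lies in `eGrp`
    have hE := S.mem_eGrp_of_trans hT hp h
    have hc : Commute p₁ p₂ := by
      have h1 := (hcen hp₁ hE)
      show p₁ * p₂ = p₂ * p₁
      calc p₁ * p₂ = p₁⁻¹ * (p₁ * (p₁ * p₂)) := by group
        _ = p₁⁻¹ * ((p₁ * p₂) * p₁) := by rw [h1.eq]
        _ = p₂ * p₁ := by group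
    exact hcd (hszc hp₁ hp₂ hc hp₁d hp₂c (hd1 hdB) (hd1 hcB)).symm
  · have h' : p₁ * p₁ = p₁ * p₂ * (p₁ * p₂) := hp₁d.trans h.symm
    have h1 := hT.sz_sq_inj hcard p₁ hp₁ _ hp h'
    rw [show p₁⁻¹ * (p₁ * p₂) = p₂ by group] at h1
    exact hd1 hcB (hp₂c.symm.trans h1)
  · have h' : p₁ * p₂ * (p₁ * p₂) = p₂ * p₂ := h.trans hp₂c.symm
    have h1 := hT.sz_sq_inj hcard _ hp p₂ hp₂ h'
    have h2 : (p₁ * p₁)⁻¹ = 1 := by
      calc (p₁ * p₁)⁻¹ = p₂ * ((p₁ * p₂)⁻¹ * p₂ * ((p₁ * p₂)⁻¹ * p₂)) * p₂⁻¹ := by group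
        _ = 1 := by rw [h1]; group
    exact hd1 hdB (hp₁d.symm.trans (inv_eq_one.1 h2))
  · have hc : Commute p₁ p₂ := by
      rw [hu, ← hp₁d, ← hp₂c] at h
      show p₁ * p₂ = p₂ * p₁
      calc p₁ * p₂ = p₁⁻¹ * (p₁ * p₁ * (p₂ * p₂)) * p₂⁻¹ := by group
        _ = p₂ * p₁ := by rw [← h]; group
    exact hcd (hszc hp₁ hp₂ hc hp₁d hp₂c (hd1 hdB) (hd1 hcB)).symm

theorem three_dvd (he : e = 3) : 3 ∣ Nat.card S.rho.ker := by
  haveI : Fact (Nat.Prime 3) := ⟨Nat.prime_three⟩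
  obtain ⟨b, hb, hba⟩ := S.loc'.exists_ne
  obtain ⟨t, Q, -, h⟩ := S.loc'.exists_model S.pre S.four ⟨b, hb⟩
    fun h => hba (congrArg Subtype.val h)
  have hq : BenderSuzuki.qNum (img (loc D x) (orbit (loc D x) a)) (pt (loc D x) a) = 8 := S.qOf_eight
  have hQ : Nat.card Q = BenderSuzuki.qNum (img (loc D x) (orbit (loc D x) a)) (pt (loc D x) a) ^ 3 := by
    have h1 := RankOne.Basic.card_omega h.hyp.setup
    rw [S.card_orbit_eq, he] at h1
    rw [hq]
    omega
  obtain ⟨hker, hdvd⟩ := h.card_ker hQ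
  set V := BenderSuzuki.vKer (pt (loc D x) a) t
  have h3 : 3 ∣ Nat.card V := by
    rw [hq] at hdvd
    obtain ⟨j, -, hj⟩ := (Nat.dvd_prime_pow Nat.prime_three).1 (show Nat.card V ∣ 3 ^ 2 from hdvd)
    rcases j with _ | j
    · exact absurd (Subgroup.card_eq_one.1 hj) hker
    · rw [hj, pow_succ]; exact dvd_mul_left _ _
  obtain ⟨v, hv⟩ := exists_prime_orderOf_dvd_card' 3 h3
  obtain ⟨y, hy⟩ := toImg_surjective (v : img (loc D x) (orbit (loc D x) a))
  have hyord : 3 ∣ orderOf (y : G) := by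
    rw [← hv, ← Subgroup.orderOf_coe v, ← hy, Subgroup.orderOf_coe]
    exact orderOf_map_dvd _ y
  have hya : (y : G) • a = a := by
    have h1 : (v : img (loc D x) (orbit (loc D x) a)) • pt (loc D x) a = pt (loc D x) a := v.2.1.1
    rw [← hy] at h1
    exact congrArg Subtype.val h1
  have hmem : (y : G) ∈ S.tGrp := by
    refine S.mem_tGrp.2 ⟨hya, commute_of_mem_loc y.2, fun d hd => ?_⟩
    have hd' : d ∈ memIn D (loc D x) a := by rwa [memIn_loc]
    refine mul_inv_eq_iff_eq_mul.1 (S.loc'.conj_eq_of_img S.pre S.hcomm hya hd' hd' ?_)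
    rw [hy]
    exact mul_inv_eq_iff_eq_mul.2
      (Subgroup.mem_centralizer_iff.1 v.2.2 _ (S.loc'.invs_of_memIn S.pre hd')).symm
  obtain ⟨n, hn⟩ := hmem
  refine hyord.trans ?_
  rw [← hn, orderOf_injective S.kerHom S.kerHom_injective]
  exact orderOf_dvd_natCard n

theorem false_three (he : e = 3) : False := by
  haveI := S.min.faithful
  haveI : Fact (Nat.Prime 3) := ⟨Nat.prime_three⟩
  obtain ⟨P⟩ : Nonempty (Sylow 3 S.rho.ker) := inferInstance
  have hne1 : ∃ g ∈ S.pG P, g ≠ 1 := by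
    by_contra! hall
    have h1 : 3 ∣ Nat.card P := P.dvd_card_of_dvd_card (S.three_dvd he)
    haveI : Subsingleton P := ⟨fun u w => Subtype.ext (S.kerHom_injective
      ((hall _ (Subgroup.mem_map_of_mem _ u.2)).trans (hall _ (Subgroup.mem_map_of_mem _ w.2)).symm))⟩
    have h4 : Nat.card P = 1 := Nat.card_of_subsingleton 1
    exact absurd (h1.trans h4.dvd) (by norm_num)
  have hPa : ∀ g ∈ S.pG P, g • a = a := fun g hg => (S.mem_tGrp.1 (S.pG_le P hg)).1
  have hPB : ∀ g ∈ S.pG P, ∀ d ∈ memCent D x a, Commute g d :=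
    fun g hg => (S.mem_tGrp.1 (S.pG_le P hg)).2.2
  -- a second fixed point
  haveI := CountsB.finite_points S.min
  set Fx : Set Ω := {z | x • z = z} \ {a}
  have hFx : Nat.card Fx = 8 ^ 3 := by
    rw [Nat.card_coe_set_eq, Set.ncard_sdiff_singleton_of_mem (show a ∈ {z | x • z = z} from S.fix),
      ← Nat.card_coe_set_eq, S.counts.card_fix, S.q_eq, he]
    omega
  letI : MulAction (S.pG P) Fx :=
    { smul := fun g z => ⟨(g : G) • z.1, by
        refine ⟨?_, fun h => z.2.2 ?_⟩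
        · show x • (g : G) • z.1 = (g : G) • z.1
          rw [smul_smul, ← (S.comm_x_of_tGrp (S.pG_le P g.2)).eq, mul_smul,
            (z.2.1 : x • z.1 = z.1)]
        · exact smul_left_cancel (g : G) ((Set.mem_singleton_iff.1 h).trans (hPa g g.2).symm)⟩
      one_smul := fun z => Subtype.ext (one_smul G z.1)
      mul_smul := fun g g' z => Subtype.ext (mul_smul (g : G) (g' : G) z.1) }
  obtain ⟨⟨b, hb, hba⟩, hbfix⟩ :=
    (S.pG_isPGroup P).nonempty_fixed_point_of_prime_not_dvd_card Fx (by rw [hFx]; norm_num)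
  have hPb : ∀ g ∈ S.pG P, g • b = b := fun g hg => congrArg Subtype.val (hbfix ⟨g, hg⟩)
  have hab : a ≠ b := fun h => hba h.symm
  -- a swapper centralising the Sylow subgroup
  letI : MulAction (S.pG P) (memSwap G D a b) :=
    { smul := fun g w => ⟨(g : G) * w * (g : G)⁻¹, S.pre.conj _ _ w.2.1, by
        rw [mul_smul, mul_smul, inv_smul_eq_iff.2 (hPa g g.2).symm,
          show (w : G) • a = b from w.2.2, hPb g g.2]⟩
      one_smul := fun w => Subtype.ext (show (1 : G) * w * (1 : G)⁻¹ = w by group)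
      mul_smul := fun g g' w => Subtype.ext (show ((g : G) * g') * w * ((g : G) * g')⁻¹ =
        (g : G) * ((g' : G) * w * (g' : G)⁻¹) * (g : G)⁻¹ by group) }
  obtain ⟨w, hw⟩ := (S.pG_isPGroup P).nonempty_fixed_point_of_prime_not_dvd_card (memSwap G D a b) (by
    rw [S.pre.card_memSwap hab, ← S.pre.card_memAt a b, S.memAt_eq, S.card_seven]; norm_num)
  have hwP : ∀ g ∈ S.pG P, Commute (w : G) g := fun g hg =>
    (mul_inv_eq_iff_eq_mul.1 (congrArg Subtype.val (hw ⟨g, hg⟩))).symm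
  -- the group of the members centralising the Sylow subgroup
  set Y : Subgroup G := Subgroup.closure {z | z ∈ D ∧ ∀ g ∈ S.pG P, Commute z g} with hYdef
  have hYP : ∀ z ∈ Y, ∀ g ∈ S.pG P, Commute z g := by
    intro z hz g hg
    induction hz using Subgroup.closure_induction with
    | mem z hz => exact hz.2 g hg
    | one => exact Commute.one_left g
    | mul z z' _ _ h1 h2 => exact h1.mul_left h2
    | inv z _ h1 => exact h1.inv_left
  have hBY : ∀ d ∈ memCent D x a, d ∈ Y := fun d hd =>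
    Subgroup.subset_closure ⟨hd.1.1, fun g hg => (hPB g hg d hd).symm⟩
  have hYtop : Y ≠ ⊤ := by
    intro htop
    obtain ⟨g, hg, hg1⟩ := hne1
    haveI := S.pre.trans
    refine hg1 (eq_of_smul_eq_smul fun z : Ω => ?_)
    obtain ⟨k, rfl⟩ := exists_smul_eq G a z
    rw [one_smul, smul_smul, ← (hYP k (htop ▸ Subgroup.mem_top k) g hg).eq, mul_smul, hPa g hg]
  have hgen : Subgroup.closure {z | z ∈ D ∧ z ∈ Y} = Y :=
    le_antisymm ((Subgroup.closure_le _).2 fun z hz => hz.2)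
      ((Subgroup.closure_le _).2 fun z hz =>
        Subgroup.subset_closure ⟨hz.1, Subgroup.subset_closure hz⟩)
  obtain ⟨d, hd, -⟩ := S.fourAt_of (y := 1) fun _ _ => Commute.one_right _
  have hdB : d ∈ memCent D x a := by rw [← S.memAt_eq]; exact hd.1
  have hY : Loc D Y a := loc_sub S.min hYtop hgen hdB.1 (hBY d hdB)
    ⟨w, Subgroup.subset_closure ⟨w.2.1, hwP⟩, fun h => hba ((w.2.2 : (w : G) • a = b).symm.trans h)⟩
  have hB : memIn D Y a = memCent D x a := Set.ext fun f =>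
    ⟨fun hf => S.memAt_eq ▸ hf.1, fun hf => ⟨hf.1, hBY f hf⟩⟩
  obtain ⟨t, i, ht, hti, hne, hsq, hN⟩ := S.exists_moving_normalising P
  have key : ∀ k ∈ Subgroup.normalizer (S.pG P : Set G), ∀ z ∈ Y, k * z * k⁻¹ ∈ Y := by
    intro k hk z hz
    induction hz using Subgroup.closure_induction with
    | mem z hz =>
      refine Subgroup.subset_closure ⟨S.pre.conj k z hz.1, fun g hg => ?_⟩
      have h := hz.2 _ ((Subgroup.mem_normalizer_iff''.1 hk g).1 hg)
      show k * z * k⁻¹ * g = g * (k * z * k⁻¹)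
      calc k * z * k⁻¹ * g = k * (z * (k⁻¹ * g * k)) * k⁻¹ := by group
        _ = g * (k * z * k⁻¹) := by rw [h.eq]; group
    | one => simp
    | mul z z' _ _ h1 h2 =>
      rw [show k * (z * z') * k⁻¹ = k * z * k⁻¹ * (k * z' * k⁻¹) by group]
      exact mul_mem h1 h2
    | inv z _ h1 =>
      rw [show k * z⁻¹ * k⁻¹ = (k * z * k⁻¹)⁻¹ by group]
      exact inv_mem h1
  have htY : t ∈ Subgroup.normalizer (Y : Set G) := by
    refine Subgroup.mem_normalizer_iff.2 fun z => ⟨key t hN z, fun hz => ?_⟩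
    have := key t⁻¹ (inv_mem hN) _ hz
    rwa [show t⁻¹ * (t * z * t⁻¹) * t⁻¹⁻¹ = z by group] at this
  exact hne (S.centralises_of_auto hY hB ⟨htY, S.nGrp_fix ⟨t, ht⟩⟩ hti)

theorem false_of_setting : False := by
  rcases S.counts.type with h | h | h
  exacts [S.false_one h, S.false_two h, S.false_three h]

end Cfsg.Agent.Lib.Crit5.Pure.Setting
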