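import Mathlib

/-!
# Section P of the single fixed point criterion: the linear group of a translation

A finite group `Λ` acts faithfully on an elementary abelian `2`-group `E`; `v` is a surjective
cocycle, whose kernel `stab` contains an abelian normal subgroup `C` transitive on the non-trivial
elements of `E`.  Here the field structure given by `C`: `stab / C` is a group of field
automorphisms.
-/

set_option autoImplicit false
set_option linter.style.haveILetI false

namespace Cfsg.Agent.Lib.Crit5.Pure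

universe u w

/-- The setting. -/
structure Twist (Λ : Type u) (E : Type w) [Group Λ] [CommGroup E] [MulDistribMulAction Λ E]
    (v : Λ → E) (C : Subgroup Λ) : Prop where
  eq_one : ∀ g : Λ, (∀ e : E, g • e = e) → g = 1
  mul_self : ∀ e : E, e * e = 1
  four : 4 ≤ Nat.card E
  cocycle : ∀ g h, v (g * h) = v g * g • v h
  surj : Function.Surjective v
  comm : ∀ c ∈ C, ∀ d ∈ C, c * d = d * c
  fixed : ∀ c ∈ C, v c = 1
  normal : ∀ h, v h = 1 → ∀ c ∈ C, h * c * h⁻¹ ∈ C
  trans : ∀ e e' : E, e ≠ 1 → e' ≠ 1 → ∃ c ∈ C, c • e = e'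

namespace Twist

variable {Λ : Type u} {E : Type w} [Group Λ] [CommGroup E] [MulDistribMulAction Λ E]
  {v : Λ → E} {C : Subgroup Λ} (T : Twist Λ E v C)
include T

theorem finite_space : Finite E := Nat.finite_of_card_ne_zero (by have := T.four; omega)

theorem inv_self (e : E) : e⁻¹ = e := inv_eq_of_mul_eq_one_right (T.mul_self e)

theorem v_one : v 1 = 1 := by simpa using T.cocycle 1 1

theorem v_inv (g : Λ) : v g⁻¹ = g⁻¹ • v g := by
  have h := T.cocycle g⁻¹ g
  rw [inv_mul_cancel, T.v_one] at h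
  rw [← T.inv_self (g⁻¹ • v g)]
  exact eq_inv_of_mul_eq_one_left h.symm

/-- The kernel of the cocycle. -/
def stab : Subgroup Λ where
  carrier := {g | v g = 1}
  one_mem' := T.v_one
  mul_mem' := fun {g h} hg hh => by
    show v (g * h) = 1
    rw [T.cocycle, show v g = 1 from hg, show v h = 1 from hh, smul_one, mul_one]
  inv_mem' := fun {g} hg => by
    show v g⁻¹ = 1
    rw [T.v_inv, show v g = 1 from hg, smul_one]

theorem mem_stab {g : Λ} : g ∈ T.stab ↔ v g = 1 := Iff.rfl

theorem le_stab : C ≤ T.stab := T.fixed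

theorem card_eq : Nat.card Λ = Nat.card E * Nat.card T.stab := by
  have he : ∀ g h : Λ, v g = v h ↔ g⁻¹ * h ∈ T.stab := by
    intro g h
    have h1 := T.cocycle g (g⁻¹ * h)
    rw [mul_inv_cancel_left] at h1
    rw [T.mem_stab, h1]
    constructor
    · intro e
      have : g • v (g⁻¹ * h) = 1 := mul_left_cancel (a := v g) (by rw [mul_one]; exact e.symm)
      simpa using congrArg (g⁻¹ • ·) this
    · intro e; rw [e, smul_one, mul_one]
  have e : (Λ ⧸ T.stab) ≃ E := Equiv.ofBijective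
    (Quotient.lift v fun g h hgh => (he g h).2 (QuotientGroup.leftRel_apply.1 hgh))
    ⟨fun a b => Quotient.inductionOn₂ a b fun g h hgh =>
      Quotient.sound (QuotientGroup.leftRel_apply.2 ((he g h).1 hgh)),
      fun e => let ⟨g, hg⟩ := T.surj e; ⟨QuotientGroup.mk g, hg⟩⟩
  rw [← Nat.card_congr e]
  exact Subgroup.card_eq_card_quotient_mul_card_subgroup _

theorem eq_one_of_fix {c : Λ} (hc : c ∈ C) {e : E} (he : e ≠ 1) (h : c • e = e) : c = 1 := by
  refine T.eq_one c fun e' => ?_
  rcases eq_or_ne e' 1 with rfl | he'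
  · exact smul_one c
  · obtain ⟨d, hd, rfl⟩ := T.trans e e' he he'
    rw [smul_smul, T.comm c hc d hd, ← smul_smul, h]

theorem exists_vec : ∃ e : E, e ≠ 1 := by
  haveI := T.finite_space
  haveI : Nontrivial E := Finite.one_lt_card_iff_nontrivial.1 (by have := T.four; omega)
  exact exists_ne 1

theorem card_cyclic : Nat.card C + 1 = Nat.card E := by
  classical
  haveI := T.finite_space
  haveI := Fintype.ofFinite E
  obtain ⟨e₀, he₀⟩ := T.exists_vec
  have hb : Function.Bijective fun c : C =>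
      (⟨(c : Λ) • e₀, fun h => he₀ (smul_left_cancel (c : Λ) (h.trans (smul_one _).symm))⟩ :
        {e : E // e ≠ 1}) := by
    refine ⟨fun c d h => ?_, fun e => ?_⟩
    · have h' : (c : Λ) • e₀ = (d : Λ) • e₀ := congrArg Subtype.val h
      have h1 := T.eq_one_of_fix (mul_mem (inv_mem d.2) c.2) he₀
        (by rw [← smul_smul, h', inv_smul_smul])
      exact Subtype.ext (inv_mul_eq_one.1 h1).symm
    · obtain ⟨c, hc, hce⟩ := T.trans e₀ e.1 he₀ e.2
      exact ⟨⟨c, hc⟩, Subtype.ext hce⟩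
  rw [Nat.card_eq_of_bijective _ hb, Nat.card_eq_fintype_card, Nat.card_eq_fintype_card,
    Fintype.card_subtype_compl, Fintype.card_subtype_eq]
  have := T.four
  rw [Nat.card_eq_fintype_card] at this
  omega

/-- `C` is its own centraliser. -/
theorem mem_of_commute {g : Λ} (h : ∀ c ∈ C, g * c = c * g) : g ∈ C := by
  obtain ⟨e₀, he₀⟩ := T.exists_vec
  obtain ⟨c, hc, hce⟩ := T.trans e₀ (g • e₀) he₀
    fun h' => he₀ (smul_left_cancel g (h'.trans (smul_one _).symm))
  have hgc : c⁻¹ * g = 1 := by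
    refine T.eq_one _ fun e => ?_
    rcases eq_or_ne e 1 with rfl | he
    · exact smul_one _
    · obtain ⟨d, hd, rfl⟩ := T.trans e₀ e he₀ he
      rw [smul_smul, mul_assoc, h d hd, ← mul_assoc, T.comm _ (inv_mem hc) d hd, mul_assoc,
        ← smul_smul, ← smul_smul, ← hce, inv_smul_smul]
  rw [← inv_mul_eq_one.1 hgc]
  exact hc

/-- The endomorphism of an element. -/
def endo (g : Λ) : AddMonoid.End (Additive E) :=
  have _ := T
  (MulDistribMulAction.toMonoidHom E g).toAdditive

theorem endo_apply (g : Λ) (e : Additive E) :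
    T.endo g e = Additive.ofMul (g • e.toMul) := rfl

theorem endo_mul (g h : Λ) : T.endo (g * h) = T.endo g * T.endo h :=
  AddMonoidHom.ext fun e => congrArg Additive.ofMul (mul_smul g h e.toMul)

theorem endo_one : T.endo 1 = 1 :=
  AddMonoidHom.ext fun e => congrArg Additive.ofMul (one_smul Λ e.toMul)

theorem endo_inj {g h : Λ} (e : T.endo g = T.endo h) : g = h := by
  have h1 : h⁻¹ * g = 1 := T.eq_one _ fun x => by
    have := congrArg Additive.toMul (DFunLike.congr_fun e (Additive.ofMul x))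
    rw [mul_smul, inv_smul_eq_iff]
    exact this
  exact (inv_mul_eq_one.1 h1).symm

theorem add_mem_field {c d : Λ} (hc : c ∈ C) (hd : d ∈ C) :
    T.endo c + T.endo d = 0 ∨ ∃ b ∈ C, T.endo c + T.endo d = T.endo b := by
  obtain ⟨e₀, he₀⟩ := T.exists_vec
  have key : ∀ b : Λ, (∀ e : C, (e : Λ) * b = b * e) → b • e₀ = c • e₀ * d • e₀ →
      T.endo c + T.endo d = T.endo b := by
    intro b hb h
    refine AddMonoidHom.ext fun x => congrArg Additive.ofMul ?_
    show c • x.toMul * d • x.toMul = b • x.toMul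
    rcases eq_or_ne x.toMul 1 with hx | hx
    · simp [hx]
    · obtain ⟨a, ha, hax⟩ := T.trans e₀ _ he₀ hx
      rw [← hax, smul_smul, smul_smul, smul_smul, T.comm c hc a ha, T.comm d hd a ha,
        ← hb ⟨a, ha⟩, ← smul_smul, ← smul_smul, ← smul_smul, h, smul_mul']
  by_cases h : c • e₀ * d • e₀ = 1
  · left
    refine AddMonoidHom.ext fun x => congrArg Additive.ofMul ?_
    show c • x.toMul * d • x.toMul = 1
    rcases eq_or_ne x.toMul 1 with hx | hx
    · simp [hx]
    · obtain ⟨a, ha, hax⟩ := T.trans e₀ _ he₀ hx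
      rw [← hax, smul_smul, smul_smul, T.comm c hc a ha, T.comm d hd a ha, ← smul_smul,
        ← smul_smul, ← smul_mul', h, smul_one]
  · obtain ⟨b, hb, hbe⟩ := T.trans e₀ _ he₀ h
    exact Or.inr ⟨b, hb, key b (fun e => T.comm _ e.2 b hb) hbe⟩

/-- The field of `C`. -/
def fld : Subring (AddMonoid.End (Additive E)) where
  carrier := {k | k = 0 ∨ ∃ c ∈ C, k = T.endo c}
  zero_mem' := Or.inl rfl
  one_mem' := Or.inr ⟨1, one_mem C, T.endo_one.symm⟩
  mul_mem' := by
    rintro _ _ (rfl | ⟨c, hc, rfl⟩) (rfl | ⟨d, hd, rfl⟩)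
    · exact Or.inl (zero_mul _)
    · exact Or.inl (zero_mul _)
    · exact Or.inl (mul_zero _)
    · exact Or.inr ⟨c * d, mul_mem hc hd, (T.endo_mul c d).symm⟩
  add_mem' := by
    rintro _ _ (rfl | ⟨c, hc, rfl⟩) (rfl | ⟨d, hd, rfl⟩)
    · exact Or.inl (add_zero _)
    · exact Or.inr ⟨d, hd, zero_add _⟩
    · exact Or.inr ⟨c, hc, add_zero _⟩
    · exact T.add_mem_field hc hd
  neg_mem' := by
    rintro _ (rfl | ⟨c, hc, rfl⟩)
    · exact Or.inl neg_zero
    · refine Or.inr ⟨c, hc, AddMonoidHom.ext fun x => ?_⟩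
      exact congrArg Additive.ofMul (T.inv_self (c • x.toMul))

theorem fld_isField : IsField T.fld := by
  obtain ⟨e₀, he₀⟩ := T.exists_vec
  refine ⟨⟨0, 1, fun h => he₀ ?_⟩, ?_, ?_⟩
  · have h1 := DFunLike.congr_fun (congrArg Subtype.val h) (Additive.ofMul e₀)
    exact (congrArg Additive.toMul h1).symm
  · rintro ⟨k, hk⟩ ⟨l, hl⟩
    refine Subtype.ext ?_
    show k * l = l * k
    rcases hk with rfl | ⟨c, hc, rfl⟩
    · simp
    rcases hl with rfl | ⟨d, hd, rfl⟩
    · simp
    rw [← T.endo_mul, ← T.endo_mul, T.comm c hc d hd]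
  · rintro ⟨k, hk⟩ hne
    rcases hk with rfl | ⟨c, hc, rfl⟩
    · exact absurd rfl hne
    · exact ⟨⟨T.endo c⁻¹, Or.inr ⟨_, inv_mem hc, rfl⟩⟩, Subtype.ext (by
        show T.endo c * T.endo c⁻¹ = 1
        rw [← T.endo_mul, mul_inv_cancel, T.endo_one])⟩

theorem conj_mem_fld {h : Λ} (hh : h ∈ T.stab) {k : AddMonoid.End (Additive E)} (hk : k ∈ T.fld) :
    T.endo h * k * T.endo h⁻¹ ∈ T.fld := by
  rcases hk with rfl | ⟨c, hc, rfl⟩
  · exact Or.inl (by simp)
  · exact Or.inr ⟨_, T.normal h hh c hc, by rw [T.endo_mul, T.endo_mul]⟩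

/-- The automorphism of the field given by an element of the kernel. -/
def conjFld (h : T.stab) : T.fld ≃+* T.fld where
  toFun k := ⟨T.endo h * k.1 * T.endo (h : Λ)⁻¹, T.conj_mem_fld h.2 k.2⟩
  invFun k := ⟨T.endo (h : Λ)⁻¹ * k.1 * T.endo h, by
    have := T.conj_mem_fld (inv_mem h.2) k.2
    rwa [inv_inv] at this⟩
  left_inv k := Subtype.ext (by
    show T.endo (h : Λ)⁻¹ * (T.endo h * k.1 * T.endo (h : Λ)⁻¹) * T.endo h = k.1
    calc _ = T.endo (h : Λ)⁻¹ * T.endo h * k.1 * (T.endo (h : Λ)⁻¹ * T.endo h) := by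
          simp only [mul_assoc]
      _ = k.1 := by rw [← T.endo_mul, inv_mul_cancel, T.endo_one, one_mul, mul_one])
  right_inv k := Subtype.ext (by
    show T.endo h * (T.endo (h : Λ)⁻¹ * k.1 * T.endo h) * T.endo (h : Λ)⁻¹ = k.1
    calc _ = T.endo h * T.endo (h : Λ)⁻¹ * k.1 * (T.endo h * T.endo (h : Λ)⁻¹) := by
          simp only [mul_assoc]
      _ = k.1 := by rw [← T.endo_mul, mul_inv_cancel, T.endo_one, one_mul, mul_one])
  map_mul' k l := Subtype.ext (by
    show T.endo h * (k.1 * l.1) * T.endo (h : Λ)⁻¹ =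
      T.endo h * k.1 * T.endo (h : Λ)⁻¹ * (T.endo h * l.1 * T.endo (h : Λ)⁻¹)
    symm
    calc _ = T.endo h * k.1 * (T.endo (h : Λ)⁻¹ * T.endo h) * l.1 * T.endo (h : Λ)⁻¹ := by
          simp only [mul_assoc]
      _ = _ := by rw [← T.endo_mul, inv_mul_cancel, T.endo_one, mul_one, mul_assoc (T.endo h)])
  map_add' k l := Subtype.ext (by
    show T.endo h * (k.1 + l.1) * T.endo (h : Λ)⁻¹ = _
    rw [mul_add, add_mul]; rfl)

/-- **`stab / C` as a group of field automorphisms.** -/
theorem galois : ∃ (A : Type w) (_ : CommGroup A) (_ : Finite A) (φ : T.stab →* A), IsCyclic A ∧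
    (∀ h, φ h = 1 ↔ (h : Λ) ∈ C) ∧ Nat.card E = 2 ^ Nat.card A ∧
    ∀ (h : T.stab) (e : E), e ≠ 1 → (h : Λ) • e = e →
      Nat.card E = Nat.card {x : E // (h : Λ) • x = x} ^ orderOf (φ h) := by
  classical
  haveI := T.finite_space
  letI : Field T.fld := T.fld_isField.toField
  haveI hfin : Finite T.fld := by
    obtain ⟨e₀, he₀⟩ := T.exists_vec
    haveI : Finite (Additive E) := Finite.of_equiv E Additive.ofMul
    haveI : Finite (AddMonoid.End (Additive E)) :=
      Finite.of_injective (fun f => (f : Additive E → Additive E)) DFunLike.coe_injective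
    infer_instance
  haveI : CharP T.fld 2 := by
    refine CharTwo.of_one_ne_zero_of_two_eq_zero one_ne_zero (Subtype.ext ?_)
    rw [show (2 : T.fld) = 1 + 1 from one_add_one_eq_two.symm]
    exact AddMonoidHom.ext fun x => congrArg Additive.ofMul (T.mul_self x.toMul)
  letI : Algebra (ZMod 2) T.fld := ZMod.algebra T.fld 2
  haveI := Fintype.ofFinite T.fld
  -- evaluation
  have hval : ∀ {e : E}, e ≠ 1 → Function.Bijective fun k : T.fld =>
      (k.1 (Additive.ofMul e)).toMul := by
    intro e he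
    refine ⟨fun k l hkl => Subtype.ext (AddMonoidHom.ext fun x => ?_), fun y => ?_⟩
    · rcases eq_or_ne x.toMul 1 with hx | hx
      · obtain rfl : x = 0 := hx
        exact (AddMonoidHom.map_zero k.1).trans (AddMonoidHom.map_zero l.1).symm
      · obtain ⟨a, ha, hax⟩ := T.trans e _ he hx
        have hcomm : ∀ m : T.fld, m.1 x = T.endo a (m.1 (Additive.ofMul e)) := by
          intro m
          have h1 := congrArg Subtype.val
            (mul_comm m (⟨T.endo a, Or.inr ⟨a, ha, rfl⟩⟩ : T.fld))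
          have h2 := DFunLike.congr_fun h1 (Additive.ofMul e)
          rw [show x = T.endo a (Additive.ofMul e) from congrArg Additive.ofMul hax.symm]
          exact h2
        exact (hcomm k).trans
          ((congrArg (T.endo a) (Additive.toMul.injective hkl)).trans (hcomm l).symm)
    · rcases eq_or_ne y 1 with rfl | hy
      · exact ⟨0, rfl⟩
      · obtain ⟨c, hc, hce⟩ := T.trans e y he hy
        exact ⟨⟨T.endo c, Or.inr ⟨c, hc, rfl⟩⟩, hce⟩
  have hq : Nat.card E = Nat.card T.fld := by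
    obtain ⟨e₀, he₀⟩ := T.exists_vec
    exact (Nat.card_eq_of_bijective _ (hval he₀)).symm
  let toAlg : (T.fld ≃+* T.fld) → (T.fld ≃ₐ[ZMod 2] T.fld) := fun e =>
    { e with
      commutes' := fun r => RingHom.congr_fun
        (Subsingleton.elim (e.toRingHom.comp (algebraMap (ZMod 2) T.fld))
          (algebraMap (ZMod 2) T.fld)) r }
  let φ : T.stab →* (T.fld ≃ₐ[ZMod 2] T.fld) := MonoidHom.mk' (fun h => toAlg (T.conjFld h))
    fun g h => AlgEquiv.ext fun k => Subtype.ext (by
      show T.endo ((g : Λ) * h) * k.1 * T.endo ((g : Λ) * h)⁻¹ =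
        T.endo g * (T.endo h * k.1 * T.endo (h : Λ)⁻¹) * T.endo (g : Λ)⁻¹
      simp only [mul_inv_rev, T.endo_mul, mul_assoc])
  haveI : IsCyclic (T.fld ≃ₐ[ZMod 2] T.fld) := inferInstance
  letI : CommGroup (T.fld ≃ₐ[ZMod 2] T.fld) := IsCyclic.commGroup
  haveI : Finite (T.fld ≃ₐ[ZMod 2] T.fld) :=
    Finite.of_injective (fun f => (f : T.fld → T.fld)) DFunLike.coe_injective
  refine ⟨T.fld ≃ₐ[ZMod 2] T.fld, inferInstance, inferInstance, φ, inferInstance, fun h => ⟨fun hh =>
    T.mem_of_commute fun c hc => ?_, fun hh => AlgEquiv.ext fun k => Subtype.ext ?_⟩, ?_,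
    fun h e he hhe => ?_⟩
  · have h1 := congrArg Subtype.val
      (DFunLike.congr_fun hh (⟨T.endo c, Or.inr ⟨c, hc, rfl⟩⟩ : T.fld))
    have h2 : T.endo ((h : Λ) * c * (h : Λ)⁻¹) = T.endo c := by
      rw [T.endo_mul, T.endo_mul]; exact h1
    exact mul_inv_eq_iff_eq_mul.1 (T.endo_inj h2)
  · show T.endo h * k.1 * T.endo (h : Λ)⁻¹ = k.1
    rcases k.2 with hk | ⟨c, hc, hk⟩
    · rw [hk]; simp
    · rw [hk, ← T.endo_mul, ← T.endo_mul, T.comm _ hh c hc, mul_inv_cancel_right]
  · rw [IsGalois.card_aut_eq_finrank, hq, Module.natCard_eq_pow_finrank (K := ZMod 2), Nat.card_zmod]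
  · let H := Subgroup.zpowers (φ h)
    haveI : Fintype H := Fintype.ofFinite H
    haveI : FaithfulSMul H T.fld := ⟨fun {a b} hab => Subtype.ext (AlgEquiv.ext hab)⟩
    have hfix : Nat.card (FixedPoints.subfield H T.fld) = Nat.card {x : E // (h : Λ) • x = x} := by
      refine Nat.card_congr (Equiv.subtypeEquiv (Equiv.ofBijective _ (hval he)) fun k => ?_)
      show (k ∈ FixedPoints.subfield H T.fld) ↔
        (h : Λ) • (k.1 (Additive.ofMul e)).toMul = (k.1 (Additive.ofMul e)).toMul
      have hev : ((φ h k : T.fld).1 (Additive.ofMul e)).toMul =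
          (h : Λ) • (k.1 (Additive.ofMul e)).toMul := by
        show (h : Λ) • (k.1 (Additive.ofMul ((h : Λ)⁻¹ • e))).toMul = _
        rw [inv_smul_eq_iff.2 hhe.symm]
      constructor
      · intro hk
        have h1 : φ h k = k := hk ⟨φ h, Subgroup.mem_zpowers _⟩
        rw [← hev, h1]
      · intro hk g
        have h1 : φ h k = k := (hval he).1 (hev.trans hk)
        obtain ⟨g, hg⟩ := g
        show g k = k
        obtain ⟨j, rfl⟩ := Subgroup.mem_zpowers_iff.1 hg
        exact MulAction.fixedBy_subset_fixedBy_zpow _ (φ h) j h1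
    rw [← Nat.card_zpowers, Nat.card_eq_fintype_card (α := H), hq, ← hfix,
      ← FixedPoints.finrank_eq_card H T.fld, ← Module.natCard_eq_pow_finrank]

end Twist

end Cfsg.Agent.Lib.Crit5.Pure
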