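import Cfsg.Agent.Lib.Crit5.Pure.Field
import Cfsg.Agent.Lib.Fusion.Thompson
import Cfsg.Agent.Lib.KegelWielandt.Main
import Cfsg.Agent.Lib.Cores.MinNormal

/-!
# Section P of the single fixed point criterion: transfer and the soluble case

An element `f` of odd prime order in the kernel with a centraliser transitive on its fixed points
is outside the kernel of a transfer.  If there is no element of odd prime order, `Λ` is a product
of two nilpotent groups, but it has no nontrivial normal `p`-subgroup.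
-/

set_option autoImplicit false
set_option linter.style.haveILetI false
set_option linter.unusedSectionVars false

namespace Cfsg.Agent.Lib.Crit5.Pure.Twist

open MulAction

universe u w

variable {Λ : Type u} {E : Type w} [Group Λ] [CommGroup E] [MulDistribMulAction Λ E]
  {v : Λ → E} {C : Subgroup Λ} (T : Twist Λ E v C)
include T

theorem v_eq_iff (g h : Λ) : v g = v h ↔ g⁻¹ * h ∈ T.stab := by
  have h1 := T.cocycle g (g⁻¹ * h)
  rw [mul_inv_cancel_left] at h1
  rw [T.mem_stab, h1]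
  constructor
  · intro e
    have : g • v (g⁻¹ * h) = 1 := mul_left_cancel (a := v g) (by rw [mul_one]; exact e.symm)
    simpa using congrArg (g⁻¹ • ·) this
  · intro e; rw [e, smul_one, mul_one]

/-- Elements fixing a point. -/
theorem conj_mem_stab_iff (g k : Λ) : k⁻¹ * g * k ∈ T.stab ↔ v g * g • v k = v k := by
  rw [mul_assoc, ← T.v_eq_iff k (g * k), T.cocycle]
  exact eq_comm

/-- The centraliser of a nontrivial element of `C` lies in the kernel. -/
theorem mem_stab_of_commute {c g : Λ} (hc : c ∈ C) (h1 : c ≠ 1) (hcg : c * g = g * c) :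
    g ∈ T.stab := by
  have h2 : c • v g = v g := by
    have := congrArg v hcg
    rwa [T.cocycle, T.cocycle, T.fixed c hc, smul_one, one_mul, mul_one] at this
  by_contra hg
  exact h1 (T.eq_one_of_fix hc hg h2)

theorem smul_ne_one {g : Λ} {e : E} (he : e ≠ 1) : g • e ≠ 1 :=
  fun h => he (smul_left_cancel g (h.trans (smul_one g).symm))

/-- The kernel contains no nontrivial normal subgroup. -/
theorem eq_bot_of_le_stab {N : Subgroup Λ} (hN : N.Normal) (hle : N ≤ T.stab) : N = ⊥ := by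
  refine (Subgroup.eq_bot_iff_forall _).2 fun n hn => T.eq_one n fun e => ?_
  obtain ⟨k, rfl⟩ := T.surj e
  have h := (T.conj_mem_stab_iff n k).1 (hle (by simpa using hN.conj_mem n hn k⁻¹))
  rwa [show v n = 1 from hle hn, one_mul] at h

theorem no_normal_pgroup [Finite Λ] {N : Subgroup Λ} (hN : N.Normal) {p : ℕ} (hp : p.Prime)
    (hP : IsPGroup p N) : N = ⊥ := by
  classical
  haveI := T.finite_space
  haveI : Fact p.Prime := ⟨hp⟩
  obtain ⟨i, hi⟩ : ∃ i, Nat.card E = 2 ^ i := by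
    obtain ⟨A, _, _, φ, -, -, hq, -⟩ := T.galois
    exact ⟨_, hq⟩
  have hi0 : i ≠ 0 := fun h => by have := T.four; rw [hi, h] at this; omega
  by_cases hp2 : p = 2
  · subst hp2
    have hmod := hP.card_modEq_card_fixedPoints E
    obtain ⟨e, he, hne⟩ : ∃ e ∈ fixedPoints N E, e ≠ 1 := by
      by_contra! hc
      have h1 : fixedPoints N E = {1} := Set.eq_singleton_iff_unique_mem.2 ⟨fun n => smul_one (n : Λ), hc⟩
      rw [h1, hi] at hmod
      simp [Nat.ModEq, Nat.pow_mod, zero_pow hi0] at hmod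
    refine (Subgroup.eq_bot_iff_forall _).2 fun n hn => T.eq_one n fun e' => ?_
    rcases eq_or_ne e' 1 with rfl | he'
    · exact smul_one n
    · obtain ⟨c, hc, rfl⟩ := T.trans e e' hne he'
      have h1 : (c⁻¹ * n * c) • e = e := he ⟨_, by simpa using hN.conj_mem n hn c⁻¹⟩
      calc n • c • e = c • ((c⁻¹ * n * c) • e) := by rw [smul_smul, smul_smul]; group
        _ = c • e := by rw [h1]
  · refine T.eq_bot_of_le_stab hN fun n hn => ?_
    have hmod := hP.card_modEq_card_fixedPoints (Λ ⧸ T.stab)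
    obtain ⟨x, hx⟩ : (fixedPoints N (Λ ⧸ T.stab)).Nonempty := by
      rw [Set.nonempty_iff_ne_empty]
      intro h0
      have hidx : Nat.card (Λ ⧸ T.stab) = Nat.card E := by
        have h1 := T.card_eq
        rw [Subgroup.card_eq_card_quotient_mul_card_subgroup T.stab] at h1
        exact Nat.eq_of_mul_eq_mul_right Nat.card_pos h1
      rw [h0, hidx, hi] at hmod
      have h2 : p ∣ 2 ^ i := (Nat.modEq_zero_iff_dvd).1 (by simpa using hmod)
      exact hp2 ((Nat.prime_dvd_prime_iff_eq hp Nat.prime_two).1 (hp.dvd_of_dvd_pow h2))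
    induction x using QuotientGroup.induction_on with
    | _ k =>
      have h1 : QuotientGroup.mk (s := T.stab) (k * (k⁻¹ * n * k)) = QuotientGroup.mk k := by
        rw [show k * (k⁻¹ * n * k) = n * k by group]
        exact hx ⟨n, hn⟩
      have h2 : ∀ m ∈ N, k⁻¹ * m * k ∈ T.stab := fun m hm => by
        have h3 : QuotientGroup.mk (s := T.stab) (m * k) = QuotientGroup.mk k := hx ⟨m, hm⟩
        have h4 := QuotientGroup.eq.1 h3.symm
        rwa [← mul_assoc] at h4
      have := h2 _ (hN.conj_mem n hn k)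
      rwa [show k⁻¹ * (k * n * k⁻¹) * k = n by group] at this

theorem not_isSolvable [Finite Λ] : ¬ Group.IsSolvable Λ := by
  intro hs
  haveI : Nontrivial Λ := by
    obtain ⟨e, he⟩ := T.exists_vec
    obtain ⟨g, hg⟩ := T.surj e
    exact ⟨g, 1, fun h => he (by rw [← hg, h, T.v_one])⟩
  obtain ⟨N, hN, hne, hmin⟩ := Cores.MinNormal.exists_minimal (G := Λ)
  haveI := hN
  obtain ⟨-, p, hp, hexp⟩ := Cores.MinNormal.elementary_of_solvable hne hmin
  exact hne (T.no_normal_pgroup hN hp (Cores.MinNormal.isPGroup_of_pow_eq_one hexp))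

variable {A : Type w} [CommGroup A] (φ : T.stab →* A)
  (hφ : ∀ h, φ h = 1 ↔ (h : Λ) ∈ C)
include hφ

/-- Each value of `φ` is taken by exactly one element fixing a given vector. -/
theorem exists_lift {e : E} (he : e ≠ 1) (h : T.stab) :
    ∃ f : T.stab, (f : Λ) • e = e ∧ φ f = φ h := by
  obtain ⟨d, hd, hde⟩ := T.trans ((h : Λ) • e) e (T.smul_ne_one he) he
  refine ⟨⟨d, T.fixed d hd⟩ * h, by rw [Subgroup.coe_mul, mul_smul]; exact hde, ?_⟩
  rw [map_mul, (hφ _).2 hd, one_mul]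

theorem lift_unique {e : E} (he : e ≠ 1) {f g : T.stab} (hf : (f : Λ) • e = e)
    (hg : (g : Λ) • e = e) (h : φ f = φ g) : f = g := by
  have h1 : φ (f⁻¹ * g) = 1 := by rw [map_mul, map_inv, h, inv_mul_cancel]
  have h2 := T.eq_one_of_fix ((hφ _).1 h1) he (e := e)
    (by rw [Subgroup.coe_mul, Subgroup.coe_inv, mul_smul, hg, inv_smul_eq_iff, hf])
  exact inv_mul_eq_one.1 (Subtype.ext h2)

variable {f : T.stab} {p : ℕ} (hp : p.Prime) {e₀ : E} (he₀ : e₀ ≠ 1)
  (hfe : (f : Λ) • e₀ = e₀) (hf : orderOf (φ f) = p)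
include hp he₀ hfe hf

theorem pow_eq_one : f ^ p = 1 := by
  refine T.lift_unique φ hφ he₀ (e := e₀) ?_ (one_smul _ _) ?_
  · rw [Subgroup.coe_pow]
    exact Function.IsFixedPt.eq (pow_mem (show (f : Λ) ∈ stabilizer Λ e₀ from hfe) p)
  · rw [map_pow, map_one, ← hf, pow_orderOf_eq_one]

variable [Finite A] [IsCyclic A]

/-- Every fixed point of `f` is the image of an element normalising `⟨f⟩`. -/
theorem exists_normalizing {y : E} (hy : (f : Λ) • y = y) (hy1 : y ≠ 1) :
    ∃ (g : Λ) (k : ℕ), v g = y ∧ g⁻¹ * (f : Λ) * g = (f : Λ) ^ k := by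
  classical
  haveI := Fintype.ofFinite A
  obtain ⟨g₀, rfl⟩ := T.surj y
  have hu : g₀⁻¹ * (f : Λ) * g₀ ∈ T.stab :=
    (T.conj_mem_stab_iff _ _).2 (by rw [show v (f : Λ) = 1 from f.2, one_mul, hy])
  set u : T.stab := ⟨_, hu⟩ with hudef
  have he₁ : v g₀⁻¹ ≠ 1 := by rw [T.v_inv]; exact T.smul_ne_one hy1
  have hue : (u : Λ) • v g₀⁻¹ = v g₀⁻¹ := by
    have h1 := (T.conj_mem_stab_iff (u : Λ) g₀⁻¹).1 (by
      show g₀⁻¹⁻¹ * (g₀⁻¹ * (f : Λ) * g₀) * g₀⁻¹ ∈ T.stab
      rw [show g₀⁻¹⁻¹ * (g₀⁻¹ * (f : Λ) * g₀) * g₀⁻¹ = f by group]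
      exact f.2)
    rwa [show v (u : Λ) = 1 from u.2, one_mul] at h1
  obtain ⟨d, hd, hde⟩ := T.trans (v g₀⁻¹) e₀ he₁ he₀
  set u' : T.stab := ⟨d, T.fixed d hd⟩ * u * ⟨d, T.fixed d hd⟩⁻¹ with hu'def
  have hu'v : (u' : Λ) = d * (g₀⁻¹ * (f : Λ) * g₀) * d⁻¹ := rfl
  have hu'e : (u' : Λ) • e₀ = e₀ := by
    show (d * (u : Λ) * d⁻¹) • e₀ = e₀
    rw [mul_smul, mul_smul, inv_smul_eq_iff.2 hde.symm, hue, hde]
  have hpow : u' ^ p = 1 := by
    refine Subtype.ext ?_
    rw [Subgroup.coe_pow, hu'v, show d * (g₀⁻¹ * (f : Λ) * g₀) * d⁻¹ =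
      (d * g₀⁻¹) * f * (d * g₀⁻¹)⁻¹ by group, conj_pow,
      ← Subgroup.coe_pow, T.pow_eq_one φ hφ hp he₀ hfe hf]
    simp
  have hmem : φ u' ∈ Subgroup.zpowers (φ f) := by
    have h1 : (Finset.univ.filter fun a : A => a ∈ Subgroup.zpowers (φ f)) =
        Finset.univ.filter fun a : A => a ^ p = 1 := by
      refine Finset.eq_of_subset_of_card_le (fun a ha => ?_) ?_
      · obtain ⟨j, rfl⟩ := Subgroup.mem_zpowers_iff.1 (Finset.mem_filter.1 ha).2
        refine Finset.mem_filter.2 ⟨Finset.mem_univ _, ?_⟩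
        rw [← zpow_natCast, ← zpow_mul, mul_comm, zpow_mul, zpow_natCast, ← hf,
          pow_orderOf_eq_one, one_zpow]
      · refine (IsCyclic.card_pow_eq_one_le hp.pos).trans (le_of_eq ?_)
        rw [← Fintype.card_subtype, ← Nat.card_eq_fintype_card]
        exact hf ▸ (Nat.card_zpowers (φ f)).symm
    have h2 : φ u' ∈ Finset.univ.filter fun a : A => a ^ p = 1 :=
      Finset.mem_filter.2 ⟨Finset.mem_univ _, by rw [← map_pow, hpow, map_one]⟩
    rw [← h1] at h2
    exact (Finset.mem_filter.1 h2).2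
  obtain ⟨k, hk : φ f ^ k = φ u'⟩ := mem_powers_iff_mem_zpowers.2 hmem
  refine ⟨g₀ * d⁻¹, k, ?_, ?_⟩
  · rw [T.cocycle, T.v_inv, T.fixed d hd, smul_one, smul_one, mul_one]
  · have h2 : (f ^ k : T.stab) = u' := T.lift_unique φ hφ he₀ (e := e₀)
      (by rw [Subgroup.coe_pow]; exact pow_mem (show (f : Λ) ∈ stabilizer Λ e₀ from hfe) k)
      hu'e (by rw [map_pow, hk])
    rw [← Subgroup.coe_pow, h2, hu'v]
    group

/-- The centraliser of `f` is transitive on the fixed points of `f`. -/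
theorem exists_commute
    (hbig : 3 ≤ Nat.card {e : E // (f : Λ) • e = e} ∨
      ∃ g : Λ, g * f = f * g ∧ v g ≠ 1) {y : E} (hy : (f : Λ) • y = y) :
    ∃ g : Λ, g * f = f * g ∧ v g = y := by
  classical
  haveI := T.finite_space
  haveI := Fintype.ofFinite E
  rcases eq_or_ne y 1 with rfl | hy1
  · exact ⟨1, by simp, T.v_one⟩
  by_cases h3 : 3 ≤ Nat.card {e : E // (f : Λ) • e = e}
  · obtain ⟨z, hz, hz1, hzy⟩ : ∃ z : E, (f : Λ) • z = z ∧ z ≠ 1 ∧ z ≠ y := by
      by_contra! hc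
      have hsub : (Finset.univ.filter fun e : E => (f : Λ) • e = e) ⊆ {1, y} := by
        intro e he
        have he' := (Finset.mem_filter.1 he).2
        rcases eq_or_ne e 1 with rfl | h1
        · simp
        · simp [hc e he' h1]
      have h1 := (Finset.card_le_card hsub).trans Finset.card_le_two
      rw [Nat.card_eq_fintype_card, Fintype.card_subtype] at h3
      omega
    obtain ⟨g, kg, hg, hgf⟩ := T.exists_normalizing φ hφ hp he₀ hfe hf hy hy1
    obtain ⟨h, kh, hh, hhf⟩ := T.exists_normalizing φ hφ hp he₀ hfe hf hz hz1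
    -- `h` normalises `⟨f⟩`
    have hgen : ∀ {x : Λ} {k : ℕ}, x⁻¹ * (f : Λ) * x = (f : Λ) ^ k →
        ∃ j : ℕ, x * (f : Λ) * x⁻¹ = (f : Λ) ^ j := by
      intro x k hx
      have hf1 : (f : Λ) ^ p = 1 := by
        rw [← Subgroup.coe_pow, T.pow_eq_one φ hφ hp he₀ hfe hf, Subgroup.coe_one]
      have hne : (f : Λ) ≠ 1 := fun h0 => by
        rw [show f = 1 from Subtype.ext h0, map_one, orderOf_one] at hf
        exact hp.ne_one hf.symm
      have hk : k.Coprime p := (hp.coprime_iff_not_dvd.2 fun ⟨j, hj⟩ => hne (by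
        rw [hj, pow_mul, hf1, one_pow] at hx
        calc (f : Λ) = x * (x⁻¹ * (f : Λ) * x) * x⁻¹ := by group
          _ = 1 := by rw [hx]; group)).symm
      obtain ⟨j, hj⟩ := Nat.exists_mul_mod_eq_one_of_coprime hk hp.one_lt
      refine ⟨j, ?_⟩
      have h1 : (f : Λ) ^ (k * j) = f := by
        rw [← Nat.mod_add_div (k * j) p, hj.2, pow_add, pow_mul, hf1, one_pow, mul_one, pow_one]
      calc x * (f : Λ) * x⁻¹ = x * (f : Λ) ^ (k * j) * x⁻¹ := by rw [h1]
        _ = x * (x⁻¹ * (f : Λ) * x) ^ j * x⁻¹ := by rw [hx, pow_mul]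
        _ = x * (x⁻¹ * (f : Λ) ^ j * x) * x⁻¹ := by
          rw [show x⁻¹ * (f : Λ) * x = x⁻¹ * f * x⁻¹⁻¹ by group, conj_pow, inv_inv]
        _ = (f : Λ) ^ j := by group
    obtain ⟨jh, hjh⟩ := hgen hhf
    have hfv : ∀ {x : Λ} {j : ℕ}, x⁻¹ * (f : Λ) * x = (f : Λ) ^ j → (f : Λ) • v x = v x := by
      intro x j hx
      have h1 := (T.conj_mem_stab_iff (f : Λ) x).1 (hx ▸ pow_mem f.2 j)
      rwa [show v (f : Λ) = 1 from f.2, one_mul] at h1
    have he₁ : (f : Λ) • v h⁻¹ = v h⁻¹ := hfv (j := jh) (by rw [inv_inv]; exact hjh)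
    obtain ⟨j₂, hj₂⟩ : ∃ j, (h⁻¹ * g)⁻¹ * (f : Λ) * (h⁻¹ * g) = (f : Λ) ^ j := by
      refine ⟨kg * jh, ?_⟩
      rw [show (h⁻¹ * g)⁻¹ * (f : Λ) * (h⁻¹ * g) = g⁻¹ * (h * f * h⁻¹) * g⁻¹⁻¹ by group, hjh,
        ← conj_pow, inv_inv, hgf, ← pow_mul]
    have he₂ := hfv hj₂
    have hne1 : v h⁻¹ ≠ 1 := by rw [T.v_inv, hh]; exact T.smul_ne_one hz1
    have hne2 : v (h⁻¹ * g) ≠ 1 := by
      intro h0
      refine hzy ?_
      rw [← hh, ← hg, T.v_eq_iff]
      exact h0
    obtain ⟨c, hc, hce⟩ := T.trans _ _ hne1 hne2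
    have hcf : c * f = f * c := by
      have h1 : (f : Λ) * c * (f : Λ)⁻¹ = c := by
        have h2 : c⁻¹ * ((f : Λ) * c * (f : Λ)⁻¹) ∈ C :=
          mul_mem (inv_mem hc) (T.normal f f.2 c hc)
        refine (inv_mul_eq_one.1 (T.eq_one_of_fix h2 hne1 ?_)).symm
        rw [mul_smul, mul_smul, mul_smul, inv_smul_eq_iff.2 he₁.symm, hce, he₂, ← hce,
          inv_smul_smul]
      exact (mul_inv_eq_iff_eq_mul.1 h1).symm
    refine ⟨h * c * h⁻¹, ?_, ?_⟩
    · have h1 : Commute c ((f : Λ) ^ kh) := Commute.pow_right hcf kh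
      calc h * c * h⁻¹ * f = h * (c * (h⁻¹ * f * h)) * h⁻¹ := by group
        _ = h * ((h⁻¹ * f * h) * c) * h⁻¹ := by rw [hhf, h1.eq]
        _ = f * (h * c * h⁻¹) := by group
    · rw [T.cocycle, T.cocycle, T.fixed c hc, smul_one, mul_one, mul_smul, hce, ← T.cocycle,
        mul_inv_cancel_left, hg]
  · obtain ⟨g, hg, hg1⟩ := hbig.resolve_left h3
    refine ⟨g, hg, ?_⟩
    have hgv : (f : Λ) • v g = v g := by
      have h1 := congrArg v hg
      rw [T.cocycle, T.cocycle, show v (f : Λ) = 1 from f.2, smul_one, mul_one, one_mul] at h1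
      exact h1.symm
    by_contra hne
    refine h3 ?_
    rw [Nat.card_eq_fintype_card, Fintype.card_subtype]
    refine le_trans (le_of_eq ?_) (Finset.card_le_card (s := {1, v g, y}) ?_)
    · rw [Finset.card_eq_three.2 ⟨1, v g, y, hg1.symm, hy1.symm, hne, rfl⟩]
    · intro e he
      simp only [Finset.mem_insert, Finset.mem_singleton] at he
      refine Finset.mem_filter.2 ⟨Finset.mem_univ _, ?_⟩
      rcases he with rfl | rfl | rfl
      exacts [smul_one _, hgv, hy]

/-- **Transfer**: a smaller group of the same kind without `f`. -/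
theorem descend [Finite Λ] (hodd : p ≠ 2)
    (hbig : 3 ≤ Nat.card {e : E // (f : Λ) • e = e} ∨
      ∃ g : Λ, g * f = f * g ∧ v g ≠ 1) :
    ∃ Λ₁ : Subgroup Λ, (f : Λ) ∉ Λ₁ ∧ C ≤ Λ₁ ∧ Twist Λ₁ E (fun g => v g) (C.subgroupOf Λ₁) := by
  haveI := T.finite_space
  haveI : T.stab.FiniteIndex := inferInstance
  have hf1 : (f : Λ) ^ p = 1 := by
    rw [← Subgroup.coe_pow, T.pow_eq_one φ hφ hp he₀ hfe hf, Subgroup.coe_one]
  have hVf : MonoidHom.transfer φ (f : Λ) = φ f ^ T.stab.index := by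
    refine Fusion.Thompson.transfer_controlled φ (f : Λ) f.2 fun m a h => ?_
    by_cases hm : p ∣ m
    · obtain ⟨j, rfl⟩ := hm
      have h0 : (⟨a * (f : Λ) ^ (p * j) * a⁻¹, h⟩ : T.stab) = 1 := Subtype.ext (by
        show a * (f : Λ) ^ (p * j) * a⁻¹ = 1
        rw [pow_mul, hf1, one_pow, mul_one, mul_inv_cancel])
      rw [h0, map_one, pow_mul, ← hf, pow_orderOf_eq_one, one_pow]
    · have hy : (f : Λ) • v a⁻¹ = v a⁻¹ := by
        have h1 := (T.conj_mem_stab_iff ((f : Λ) ^ m) a⁻¹).1 (by rwa [inv_inv])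
        rw [show v ((f : Λ) ^ m) = 1 from pow_mem f.2 m, one_mul] at h1
        obtain ⟨j, hj⟩ := Nat.exists_mul_mod_eq_one_of_coprime
          (hp.coprime_iff_not_dvd.2 hm).symm hp.one_lt
        have h2 : ((f : Λ) ^ m) ^ j = f := by
          rw [← pow_mul, ← Nat.mod_add_div (m * j) p, hj.2, pow_add, pow_mul, hf1, one_pow,
            mul_one, pow_one]
        have h3 := pow_mem (show (f : Λ) ^ m ∈ stabilizer Λ (v a⁻¹) from h1) j
        rwa [h2] at h3
      obtain ⟨g, hgc, hgv⟩ := T.exists_commute φ hφ hp he₀ hfe hf hbig hy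
      have hk : a * g ∈ T.stab := by
        have := (T.v_eq_iff a⁻¹ g).1 hgv.symm
        rwa [inv_inv] at this
      have hmem : (⟨a * (f : Λ) ^ m * a⁻¹, h⟩ : T.stab) =
          ⟨a * g, hk⟩ * f ^ m * ⟨a * g, hk⟩⁻¹ := by
        refine Subtype.ext ?_
        show a * (f : Λ) ^ m * a⁻¹ = a * g * (f : Λ) ^ m * (a * g)⁻¹
        have h1 : Commute g ((f : Λ) ^ m) := Commute.pow_right hgc m
        rw [show a * g * (f : Λ) ^ m * (a * g)⁻¹ = a * (g * (f : Λ) ^ m * g⁻¹) * a⁻¹ by group,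
          h1.eq, mul_inv_cancel_right]
      rw [hmem, map_mul, map_mul, map_inv, map_pow, mul_inv_cancel_comm]
  have hVC : ∀ c ∈ C, MonoidHom.transfer φ c = 1 := by
    intro c hc
    have h1 : φ ⟨c, T.fixed c hc⟩ = 1 := (hφ _).2 hc
    rw [Fusion.Thompson.transfer_controlled φ c (T.fixed c hc) fun m a h => ?_, h1, one_pow]
    rw [h1, one_pow, hφ]
    show a * c ^ m * a⁻¹ ∈ C
    rcases eq_or_ne (c ^ m) 1 with h0 | h0
    · rw [h0, mul_one, mul_inv_cancel]; exact one_mem C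
    · have h2 := (T.conj_mem_stab_iff (c ^ m) a⁻¹).1 (by rwa [inv_inv])
      rw [T.fixed _ (pow_mem hc m), one_mul] at h2
      have h3 : v a⁻¹ = 1 := by
        by_contra hne
        exact h0 (T.eq_one_of_fix (pow_mem hc m) hne h2)
      exact T.normal a (T.stab.inv_mem_iff.1 h3) _ (pow_mem hc m)
  have hidx : T.stab.index = Nat.card E := by
    have h1 := T.card_eq
    rw [Subgroup.card_eq_card_quotient_mul_card_subgroup T.stab] at h1
    exact Nat.eq_of_mul_eq_mul_right Nat.card_pos h1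
  set Λ₁ := (MonoidHom.transfer φ).ker
  have hfout : (f : Λ) ∉ Λ₁ := by
    rw [MonoidHom.mem_ker, hVf, ← orderOf_dvd_iff_pow_eq_one, hf, hidx]
    obtain ⟨A', _, _, φ', -, -, hq, -⟩ := T.galois
    rw [hq]
    exact fun h => hodd ((Nat.prime_dvd_prime_iff_eq hp Nat.prime_two).1 (hp.dvd_of_dvd_pow h))
  have hC : C ≤ Λ₁ := fun c hc => MonoidHom.mem_ker.2 (hVC c hc)
  refine ⟨Λ₁, hfout, hC, ?_⟩
  exact
    { eq_one := fun g hg => Subtype.ext (T.eq_one g.1 hg)
      mul_self := T.mul_self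
      four := T.four
      cocycle := fun g h => T.cocycle g h
      surj := fun e => by
        have hne : ¬ Λ₁ ≤ T.stab := fun hle => he₀ (by
          obtain ⟨c, hc, hce⟩ := T.trans e₀ e₀ he₀ he₀
          have h0 := T.eq_bot_of_le_stab (MonoidHom.normal_ker _) hle
          exfalso
          have h1 : C = ⊥ := eq_bot_iff.2 (hC.trans h0.le)
          have h2 := T.card_cyclic
          rw [h1, Subgroup.card_bot] at h2
          have := T.four
          omega)
        obtain ⟨k, hk, hk1⟩ := SetLike.not_le_iff_exists.1 hne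
        rcases eq_or_ne e 1 with rfl | he
        · exact ⟨1, T.v_one⟩
        · obtain ⟨c, hc, hce⟩ := T.trans (v k) e hk1 he
          exact ⟨⟨c * k, mul_mem (hC hc) hk⟩, by
            show v (c * k) = e
            rw [T.cocycle, T.fixed c hc, one_mul, hce]⟩
      comm := fun c hc d hd => Subtype.ext (T.comm c.1 hc d.1 hd)
      fixed := fun c hc => T.fixed c.1 hc
      normal := fun h hh c hc => T.normal h.1 hh c.1 hc
      trans := fun e e' he he' => by
        obtain ⟨c, hc, hce⟩ := T.trans e e' he he'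
        exact ⟨⟨c, hC hc⟩, hc, hce⟩ }

end Cfsg.Agent.Lib.Crit5.Pure.Twist
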