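import Cfsg.Agent.Lib.Crit5.Pure.Lone
import Cfsg.Agent.Lib.Crit5.Pure.Transfer
import Cfsg.Agent.Lib.Induced.Burnside
import Cfsg.Agent.Lib.Cores.Basic
import Cfsg.Agent.Lib.Cores.MinNormal

/-!
# Section P of the single fixed point criterion: `|E| = 8`

A Sylow `2`-subgroup `S` is self-normalising with one central involution `z`.  The fixer of a
vector is soluble of order `2 ^ p * p`; its `2`-core `U` has index two in `S`, so the central
involutions of `U` form a group of order at most four on which `f` has no fixed point.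
-/

set_option autoImplicit false
set_option linter.style.haveILetI false

namespace Cfsg.Agent.Lib.Crit5.Pure.Lone

open MulAction

universe u w

variable {Λ : Type u} {E : Type w} [Group Λ] [CommGroup E] [MulDistribMulAction Λ E]
  {v : Λ → E} {C : Subgroup Λ} {f : Λ} {p : ℕ} {e₀ : E} (L : Lone v C f p e₀)
include L

/-- An involution commutes with no element of odd prime order. -/
theorem not_commute {z g : Λ} {r : ℕ} (hz : z * z = 1) (hz1 : z ≠ 1) (hr : r.Prime) (hr2 : r ≠ 2)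
    (hg : g ^ r = 1) (hg1 : g ≠ 1) : g * z ≠ z * g := by
  intro hc
  have T := L.twist
  obtain ⟨k, hk⟩ := L.classify hr hr2 hg hg1
  set z' := k⁻¹ * z * k with hz'
  have hcomm : k⁻¹ * g * k * z' = z' * (k⁻¹ * g * k) := by
    rw [hz', show k⁻¹ * g * k * (k⁻¹ * z * k) = k⁻¹ * (g * z) * k by group, hc]
    group
  have hne : k⁻¹ * g * k ≠ 1 := fun h => hg1 (by
    calc g = k * (k⁻¹ * g * k) * k⁻¹ := by group
      _ = 1 := by rw [h]; group)
  have hsq : z' * z' = 1 := by
    rw [hz', show k⁻¹ * z * k * (k⁻¹ * z * k) = k⁻¹ * (z * z) * k by group, hz]; group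
  have hz'1 : z' ≠ 1 := fun h => hz1 (by
    calc z = k * (k⁻¹ * z * k) * k⁻¹ := by group
      _ = 1 := by rw [← hz', h]; group)
  refine L.v_invol_ne hsq hz'1 ?_
  rcases hk with ⟨hC, -⟩ | ⟨i, hi, -⟩
  · exact T.mem_stab_of_commute hC hne hcomm
  · haveI := Fact.mk L.prime
    have hnd : ¬ p ∣ i := fun ⟨j, hj⟩ => hne (by rw [hi, hj, pow_mul, L.pow_p, one_pow])
    obtain ⟨j, hj⟩ := exists_pow_eq_self_of_coprime (x := f) (n := i) (by
      rw [L.orderOf_f]; exact ((L.prime.coprime_iff_not_dvd).2 hnd).symm)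
    refine L.cent z' ?_
    have h2 : Commute z' ((f ^ i) ^ j) := Commute.pow_right (hi ▸ hcomm.symm) j
    rw [hj] at h2
    exact h2

/-- The centraliser of an involution is a `2`-group. -/
theorem isPGroup_centralizer {z : Λ} (hz : z * z = 1) (hz1 : z ≠ 1) :
    IsPGroup 2 (Subgroup.centralizer ({z} : Set Λ)) := by
  haveI := L.finite
  refine IsPGroup.of_card (Nat.eq_prime_pow_of_unique_prime_dvd Nat.card_pos.ne'
    fun {r} hr hdvd => ?_)
  by_contra h2
  haveI := Fact.mk hr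
  obtain ⟨g, hg⟩ := exists_prime_orderOf_dvd_card' r hdvd
  have hg1 : (g : Λ) ≠ 1 := fun h => hr.ne_one (by
    rw [← hg, ← Subgroup.orderOf_coe, h, orderOf_one])
  exact L.not_commute hz hz1 hr h2
    (by rw [← Subgroup.coe_pow, ← hg, pow_orderOf_eq_one, Subgroup.coe_one]) hg1
    (Subgroup.mem_centralizer_iff.1 g.2 z rfl).symm

theorem odd_part : Odd ((2 ^ p - 1) * p) := L.card_stab ▸ L.odd_stab

theorem factorization_two : (Nat.card Λ).factorization 2 = p := by
  rw [L.card_group, Nat.factorization_mul (by positivity) L.odd_part.pos.ne', Finsupp.add_apply,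
    Nat.factorization_pow, Finsupp.smul_apply, Nat.Prime.factorization_self Nat.prime_two,
    Nat.factorization_eq_zero_of_not_dvd fun h =>
      Nat.not_even_iff_odd.2 L.odd_part (even_iff_two_dvd.2 h)]
  simp

theorem card_sylow (S : Sylow 2 Λ) : Nat.card S = 2 ^ p := by
  haveI := L.finite
  rw [S.card_eq_multiplicity, L.factorization_two]

/-- A Sylow `2`-subgroup is self-normalising. -/
theorem normalizer_eq (S : Sylow 2 Λ) : Subgroup.normalizer (S : Set Λ) = S := by
  haveI := L.finite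
  haveI := L.twist.finite_space
  have T := L.twist
  refine S.is_maximal' (IsPGroup.of_card (Nat.eq_prime_pow_of_unique_prime_dvd Nat.card_pos.ne'
    fun {r} hr hdvd => ?_)) Subgroup.le_normalizer
  by_contra h2
  haveI := Fact.mk hr
  obtain ⟨g, hg⟩ := exists_prime_orderOf_dvd_card' r hdvd
  have hgo : orderOf (g : Λ) = r := by rw [Subgroup.orderOf_coe, hg]
  have hgr : (g : Λ) ^ r = 1 := by rw [← hgo, pow_orderOf_eq_one]
  have hg1 : (g : Λ) ≠ 1 := fun h => hr.ne_one (by rw [← hgo, h, orderOf_one])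
  set H := Subgroup.zpowers (g : Λ)
  have hH : IsPGroup r H := IsPGroup.of_card (n := 1) (by rw [pow_one, Nat.card_zpowers, hgo])
  have hHle : H ≤ Subgroup.normalizer (S : Set Λ) := Subgroup.zpowers_le.2 g.2
  obtain ⟨k, hk⟩ := L.classify hr h2 hgr hg1
  by_cases hrp : r = p
  · -- a fixed point of the conjugation on `S`
    subst hrp
    letI : MulAction H S :=
      { smul := fun h s => ⟨(h : Λ) * s * (h : Λ)⁻¹,
          (Subgroup.mem_normalizer_iff.1 (hHle h.2) _).1 s.2⟩
        one_smul := fun s => Subtype.ext (show (1 : Λ) * s * (1 : Λ)⁻¹ = s by group)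
        mul_smul := fun a b s => Subtype.ext (show ((a : Λ) * b) * s * ((a : Λ) * b)⁻¹ =
          (a : Λ) * ((b : Λ) * s * (b : Λ)⁻¹) * (a : Λ)⁻¹ by group) }
    obtain ⟨s, hs, hs1⟩ : ∃ s ∈ fixedPoints H S, s ≠ 1 := by
      by_contra! hc
      have hsing : fixedPoints H S = {1} := Set.eq_singleton_iff_unique_mem.2
        ⟨fun h => Subtype.ext (show (h : Λ) * 1 * (h : Λ)⁻¹ = 1 by group), hc⟩
      have hmod := hH.card_modEq_card_fixedPoints S
      rw [hsing, L.card_sylow, Nat.card_eq_fintype_card (α := ({1} : Set S)),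
        Set.card_singleton] at hmod
      exact L.not_dvd_sub ((Nat.modEq_iff_dvd' Nat.one_le_two_pow).1 hmod.symm)
    have hcomm : (g : Λ) * s = s * g :=
      mul_inv_eq_iff_eq_mul.1 (congrArg Subtype.val (hs ⟨g, Subgroup.mem_zpowers _⟩))
    -- an involution among the powers of `s`
    obtain ⟨m, hm⟩ := (IsPGroup.iff_orderOf.1 S.isPGroup') s
    have hso : orderOf (s : Λ) = 2 ^ m := by rw [Subgroup.orderOf_coe, hm]
    obtain ⟨m', rfl⟩ : ∃ m', m = m' + 1 := ⟨m - 1, by
      have : m ≠ 0 := fun h0 => hs1 (orderOf_eq_one_iff.1 (by rw [hm, h0, pow_zero]))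
      omega⟩
    refine L.not_commute (z := (s : Λ) ^ 2 ^ m') ?_ ?_ hr h2 hgr hg1 ?_
    · rw [← pow_add, ← two_mul, ← pow_succ', ← hso, pow_orderOf_eq_one]
    · intro h0
      have := Nat.le_of_dvd (Nat.two_pow_pos _) (hso ▸ orderOf_dvd_of_pow_eq_one h0)
      have := Nat.pow_lt_pow_right (a := 2) one_lt_two (Nat.lt_succ_self m')
      omega
    · exact (Commute.pow_right hcomm _).eq
  · obtain ⟨hC, hd⟩ := hk.resolve_right fun ⟨i, _, e⟩ => hrp e
    let W : Subgroup E :=
      { carrier := fixedPoints S E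
        one_mem' := fun s => smul_one (s : Λ)
        mul_mem' := fun {a b} ha hb s => show (s : Λ) • (a * b) = a * b by
          rw [smul_mul', show (s : Λ) • a = a from ha s, show (s : Λ) • b = b from hb s]
        inv_mem' := fun {a} ha => by rwa [T.inv_self] }
    obtain ⟨d, hW⟩ : ∃ d, Nat.card W = 2 ^ d := by
      obtain ⟨d, -, hd⟩ := (Nat.dvd_prime_pow Nat.prime_two).1
        (L.card ▸ Subgroup.card_subgroup_dvd_card W)
      exact ⟨d, hd⟩
    have hd0 : d ≠ 0 := by
      intro h0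
      have hmod : Nat.card E ≡ Nat.card W [MOD 2] := S.isPGroup'.card_modEq_card_fixedPoints E
      rw [L.card, hW, h0] at hmod
      simp [Nat.ModEq, Nat.pow_mod, zero_pow L.prime.ne_zero] at hmod
    have hdp : d < p := by
      by_contra hge
      have hle : Nat.card E ≤ Nat.card W := by
        rw [L.card, hW]; exact Nat.pow_le_pow_right two_pos (by omega)
      have hWtop : W = ⊤ := Subgroup.eq_top_of_le_card W hle
      have hS1 : ∀ s : S, s = 1 := fun s =>
        Subtype.ext (T.eq_one s fun e => (show e ∈ W from hWtop ▸ Subgroup.mem_top e) s)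
      have h3 := L.card_sylow S
      haveI : Subsingleton S := ⟨fun a b => (hS1 a).trans (hS1 b).symm⟩
      have h4 : Nat.card S = 1 := Nat.card_of_subsingleton 1
      exact absurd (h3.symm.trans h4) (Nat.one_lt_two_pow L.prime.ne_zero).ne'
    letI : MulAction H W :=
      { smul := fun h w => ⟨(h : Λ) • (w : E), fun s => by
          have h4 := (Subgroup.mem_normalizer_iff''.1 (hHle h.2) s).1 s.2
          have h5 : ((h : Λ)⁻¹ * (s : Λ) * h) • (w : E) = w := w.2 ⟨_, h4⟩
          show (s : Λ) • (h : Λ) • (w : E) = (h : Λ) • (w : E)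
          rw [← inv_smul_eq_iff, smul_smul, smul_smul, h5]⟩
        one_smul := fun w => Subtype.ext (one_smul Λ (w : E))
        mul_smul := fun a b w => Subtype.ext (mul_smul (a : Λ) (b : Λ) (w : E)) }
    have hsing : fixedPoints H W = {1} := by
      refine Set.eq_singleton_iff_unique_mem.2 ⟨fun h => Subtype.ext (smul_one (h : Λ)), fun w hw => ?_⟩
      by_contra hw1
      refine hg1 ?_
      have hwe : k⁻¹ • (w : E) ≠ 1 := fun e => hw1 (Subtype.ext (smul_left_cancel k⁻¹ (e.trans (smul_one _).symm)))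
      have h5 : (k⁻¹ * g * k) • k⁻¹ • (w : E) = k⁻¹ • (w : E) := by
        rw [smul_smul, mul_inv_cancel_right, mul_smul,
          show (g : Λ) • (w : E) = w from congrArg Subtype.val (hw ⟨g, Subgroup.mem_zpowers _⟩)]
      calc (g : Λ) = k * (k⁻¹ * g * k) * k⁻¹ := by group
        _ = 1 := by rw [T.eq_one_of_fix hC hwe h5]; group
    have hmod := hH.card_modEq_card_fixedPoints W
    rw [hsing, hW, Nat.card_eq_fintype_card (α := ({1} : Set W)), Set.card_singleton] at hmod
    have hdiv : r ∣ Nat.gcd (2 ^ d - 1) (2 ^ p - 1) :=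
      Nat.dvd_gcd ((Nat.modEq_iff_dvd' Nat.one_le_two_pow).1 hmod.symm) hd
    rw [Nat.pow_sub_one_gcd_pow_sub_one,
      show Nat.gcd d p = 1 from (L.prime.coprime_iff_not_dvd.2 fun h =>
        absurd (Nat.le_of_dvd (Nat.pos_of_ne_zero hd0) h) (by omega)).symm] at hdiv
    exact hr.ne_one (Nat.dvd_one.1 hdiv)

/-- The centraliser of an involution is a Sylow `2`-subgroup. -/
theorem card_centralizer {z : Λ} (hz : z * z = 1) (hz1 : z ≠ 1) :
    Nat.card (Subgroup.centralizer ({z} : Set Λ)) = 2 ^ p := by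
  haveI := L.finite
  set Z := Subgroup.centralizer ({z} : Set Λ) with hZ
  let F : Λ ⧸ Z → {x : Λ // x * x = 1 ∧ x ≠ 1} := Quotient.lift
    (fun g => ⟨g * z * g⁻¹, by rw [show g * z * g⁻¹ * (g * z * g⁻¹) = g * (z * z) * g⁻¹ by group, hz]; group,
      fun h => hz1 (conj_eq_one_iff.1 h)⟩)
    (fun a b hab => by
      have h := Subgroup.mem_centralizer_iff.1 (QuotientGroup.leftRel_apply.1 hab) z rfl
      refine Subtype.ext ?_
      show a * z * a⁻¹ = b * z * b⁻¹
      calc a * z * a⁻¹ = a * (z * (a⁻¹ * b)) * b⁻¹ := by group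
        _ = b * z * b⁻¹ := by rw [h]; group)
  have hinj : Function.Injective F := by
    intro a b
    refine Quotient.inductionOn₂ a b fun a b hab => Quotient.sound (QuotientGroup.leftRel_apply.2 ?_)
    have h : a * z * a⁻¹ = b * z * b⁻¹ := congrArg Subtype.val hab
    refine Subgroup.mem_centralizer_iff.2 fun y hy => ?_
    rw [Set.mem_singleton_iff.1 hy]
    calc z * (a⁻¹ * b) = a⁻¹ * (a * z * a⁻¹) * b := by group
      _ = a⁻¹ * b * z := by rw [h]; group
  have hle : Nat.card (Λ ⧸ Z) ≤ (2 ^ p - 1) * p := L.card_invol ▸ Nat.card_le_card_of_injective F hinj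
  have hc := Subgroup.card_eq_card_quotient_mul_card_subgroup Z
  rw [L.card_group] at hc
  obtain ⟨j, hj⟩ := (L.isPGroup_centralizer hz hz1).exists_card_eq
  rw [← hZ] at hj
  rw [hj] at hc ⊢
  have hge : p ≤ j := by
    by_contra hlt
    have h1 := Nat.pow_lt_pow_right (a := 2) one_lt_two (not_le.1 hlt)
    have h2 := Nat.mul_le_mul_right (2 ^ j) hle
    have h3 : (2 ^ p - 1) * p * 2 ^ j < (2 ^ p - 1) * p * 2 ^ p :=
      Nat.mul_lt_mul_of_pos_left h1 L.odd_part.pos
    rw [← hc, mul_comm] at h2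
    omega
  have hjle : j ≤ p := by
    have h1 : 2 ^ j ∣ Nat.card Λ := hj ▸ Subgroup.card_subgroup_dvd_card Z
    exact L.factorization_two ▸
      (Nat.Prime.pow_dvd_iff_le_factorization Nat.prime_two Nat.card_pos.ne').1 h1
  rw [le_antisymm hjle hge]

/-- A Sylow `2`-subgroup has one central involution. -/
theorem exists_unique_center (S : Sylow 2 Λ) : ∃ z : Λ, z * z = 1 ∧ z ≠ 1 ∧
    (∀ s ∈ S, s * z = z * s) ∧
      ∀ y : Λ, y * y = 1 → (∀ s ∈ S, s * y = y * s) → y = 1 ∨ y = z := by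
  haveI := L.finite
  haveI : Fact (Nat.Prime 2) := ⟨Nat.prime_two⟩
  let Φ : {x : Λ // x * x = 1 ∧ x ≠ 1} → Sylow 2 Λ := fun x =>
    Sylow.ofCard (Subgroup.centralizer ({(x : Λ)} : Set Λ))
      (by rw [L.card_centralizer x.2.1 x.2.2, L.factorization_two])
  have hΦ : ∀ (P : Sylow 2 Λ) (x : {x : Λ // x * x = 1 ∧ x ≠ 1}),
      (∀ s ∈ P, s * (x : Λ) = x * s) → Φ x = P := by
    intro P x hx
    refine (Sylow.ext ?_).symm
    refine (P.is_maximal' (Φ x).isPGroup' fun s hs => ?_).symm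
    exact Subgroup.mem_centralizer_iff.2 fun y hy => by
      rw [Set.mem_singleton_iff.1 hy]; exact (hx s hs).symm
  have hsurj : Function.Surjective Φ := by
    intro P
    haveI : Nontrivial P := Finite.one_lt_card_iff_nontrivial.1 (by
      rw [L.card_sylow P]; exact Nat.one_lt_two_pow L.prime.ne_zero)
    haveI := P.isPGroup'.center_nontrivial
    obtain ⟨m, hm⟩ := (P.isPGroup'.to_subgroup (Subgroup.center P)).exists_card_eq
    have hm0 : 2 ∣ Nat.card (Subgroup.center P) := by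
      have h1 : 1 < Nat.card (Subgroup.center P) := Finite.one_lt_card
      rcases m with _ | m
      · rw [hm] at h1; simp at h1
      · rw [hm, pow_succ]; exact dvd_mul_left _ _
    obtain ⟨x, hx⟩ := exists_prime_orderOf_dvd_card' 2 hm0
    have hxo : orderOf ((x : P) : Λ) = 2 := by
      rw [Subgroup.orderOf_coe, Subgroup.orderOf_coe, hx]
    refine ⟨⟨((x : P) : Λ), ?_, ?_⟩, hΦ P _ fun s hs => ?_⟩
    · have h5 := pow_orderOf_eq_one ((x : P) : Λ)
      rwa [hxo, sq] at h5
    · intro h; rw [h, orderOf_one] at hxo; exact absurd hxo (by norm_num)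
    · exact congrArg Subtype.val (Subgroup.mem_center_iff.1 x.2 ⟨s, hs⟩)
  have hcard : Nat.card {x : Λ // x * x = 1 ∧ x ≠ 1} = Nat.card (Sylow 2 Λ) := by
    have h1 := Subgroup.card_mul_index (S : Subgroup Λ)
    rw [show Nat.card (S : Subgroup Λ) = 2 ^ p from L.card_sylow S, L.card_group] at h1
    rw [L.card_invol, Sylow.card_eq_index_normalizer S, L.normalizer_eq S,
      Nat.eq_of_mul_eq_mul_left (Nat.two_pow_pos p) h1]
  have hbij : Function.Bijective Φ := (Nat.bijective_iff_surjective_and_card Φ).2 ⟨hsurj, hcard⟩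
  obtain ⟨z, hz⟩ := hsurj S
  have hzc : ∀ s ∈ S, s * (z : Λ) = z * s := fun s hs => by
    rw [← hz] at hs
    exact (Subgroup.mem_centralizer_iff.1 hs _ rfl).symm
  refine ⟨z, z.2.1, z.2.2, hzc, fun y hy hyc => ?_⟩
  rcases eq_or_ne y 1 with h | h
  · exact Or.inl h
  · exact Or.inr (congrArg Subtype.val (hbij.1 ((hΦ S ⟨y, hy, h⟩ hyc).trans hz.symm)))

/-- **`p = 3`.** -/
theorem three : p = 3 := by
  haveI := L.finite
  haveI := L.twist.finite_space
  haveI := Fintype.ofFinite E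
  haveI : Fact (Nat.Prime 2) := ⟨Nat.prime_two⟩
  haveI := Fact.mk L.prime
  classical
  have T := L.twist
  set M : Subgroup Λ := stabilizer Λ e₀ with hMdef
  have hf : f ∈ M := L.fix
  -- the order of the fixer of a vector
  have hMcard : Nat.card M = 2 ^ p * p := by
    have horb : orbit Λ e₀ = {e | e ≠ 1} := by
      ext e
      refine ⟨?_, fun he => ?_⟩
      · rintro ⟨g, rfl⟩ h
        exact L.vec_ne (smul_left_cancel g (h.trans (smul_one g).symm))
      · obtain ⟨c, -, rfl⟩ := T.trans e₀ e L.vec_ne he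
        exact ⟨c, rfl⟩
    have hidx : M.index = 2 ^ p - 1 := by
      rw [hMdef, index_stabilizer, horb, show {e : E | e ≠ 1} = {1}ᶜ from rfl, Set.ncard_compl,
        Set.ncard_singleton, L.card]
    have h := Subgroup.card_mul_index M
    rw [hidx, L.card_group, show 2 ^ p * ((2 ^ p - 1) * p) = 2 ^ p * p * (2 ^ p - 1) by ring] at h
    exact Nat.eq_of_mul_eq_mul_right (by have := Nat.one_lt_two_pow L.prime.ne_zero; omega) h
  haveI : Group.IsSolvable M :=
    Induced.Burnside.isSolvable_of_card_eq 2 p p 1 Nat.prime_two L.prime (by rw [hMcard, pow_one])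
  have hfact2 : (Nat.card M).factorization 2 = p := by
    rw [hMcard, Nat.factorization_mul (by positivity) L.prime.ne_zero, Finsupp.add_apply,
      Nat.factorization_pow, Finsupp.smul_apply, Nat.Prime.factorization_self Nat.prime_two,
      L.prime.factorization, Finsupp.single_eq_of_ne L.odd.symm]
    simp
  have hfactp : (Nat.card M).factorization p = 1 := by
    rw [hMcard, Nat.factorization_mul (by positivity) L.prime.ne_zero, Finsupp.add_apply,
      Nat.factorization_pow, Finsupp.smul_apply, Nat.Prime.factorization_self L.prime,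
      Nat.Prime.factorization Nat.prime_two, Finsupp.single_eq_of_ne L.odd]
    simp
  -- Sylow subgroups
  obtain ⟨Q⟩ : Nonempty (Sylow 2 M) := inferInstance
  have hQ : Nat.card Q = 2 ^ p := by rw [Q.card_eq_multiplicity, hfact2]
  set S : Sylow 2 Λ := Sylow.ofCard ((Q : Subgroup M).map M.subtype)
    (by rw [Subgroup.card_subtype, hQ, L.factorization_two]) with hSdef
  have hmemS : ∀ x : Λ, x ∈ S ↔ ∃ q ∈ Q, (q : Λ) = x := by
    intro x
    show x ∈ (S : Subgroup Λ) ↔ _
    rw [hSdef, Sylow.coe_ofCard]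
    exact Subgroup.mem_map
  obtain ⟨z, hz, hz1, hzc, huniq⟩ := L.exists_unique_center S
  set fM : M := ⟨f, hf⟩ with hfMdef
  have hfMo : orderOf fM = p := by rw [← Subgroup.orderOf_coe]; exact L.orderOf_f
  have hfS : ¬ ∀ s, s ∈ S ↔ f * s * f⁻¹ ∈ S := by
    intro h
    have h1 : f ∈ Subgroup.normalizer (S : Set Λ) := Subgroup.mem_normalizer_iff.2 h
    rw [L.normalizer_eq S] at h1
    obtain ⟨m, hm⟩ := IsPGroup.iff_orderOf.1 S.isPGroup' ⟨f, h1⟩
    rw [← Subgroup.orderOf_coe, L.orderOf_f] at hm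
    exact L.odd ((Nat.prime_dvd_prime_iff_eq L.prime Nat.prime_two).1
      (L.prime.dvd_of_dvd_pow (dvd_of_eq hm)))
  -- the normaliser of `⟨f⟩` in the fixer
  set P : Sylow p M := Sylow.ofCard (Subgroup.zpowers fM)
    (by rw [Nat.card_zpowers, hfMo, hfactp, pow_one]) with hPdef
  have hnorm : Nat.card (Subgroup.normalizer (P : Set M)) ≤ 2 * p := by
    obtain ⟨g₀, hg₀, -, hg₀z⟩ := L.exists_swapper
    have hsub : ((Subgroup.normalizer (P : Set M)).map M.subtype : Set Λ) ⊆
        (Subgroup.zpowers f : Set Λ) ∪ (fun x => g₀ * x) '' (Subgroup.zpowers f : Set Λ) := by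
      rintro _ ⟨n, hn, rfl⟩
      have h1 : n⁻¹ * fM * n⁻¹⁻¹ ∈ P :=
        (Subgroup.mem_normalizer_iff.1 (inv_mem hn) fM).1 (Subgroup.mem_zpowers fM)
      rw [inv_inv] at h1
      change n⁻¹ * fM * n ∈ (P : Subgroup M) at h1
      rw [hPdef, Sylow.coe_ofCard] at h1
      obtain ⟨i, hi⟩ := mem_powers_iff_mem_zpowers.2 h1
      have hst : (n : Λ)⁻¹ * f * n ∈ T.stab := by
        have h2 : f ^ i = (n : Λ)⁻¹ * f * n := congrArg Subtype.val hi
        rw [← h2]
        exact T.stab.pow_mem L.fixed i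
      have hv := (T.conj_mem_stab_iff f n).1 hst
      rw [L.fixed, one_mul] at hv
      rcases L.only _ hv with h | h
      · obtain ⟨k, hk⟩ := L.pair _ h n.2
        refine Or.inl ?_
        show (n : Λ) ∈ Subgroup.zpowers f
        rw [hk]
        exact Subgroup.npow_mem_zpowers f k
      · obtain ⟨k, hk⟩ := (hg₀z _ h).1.1 n.2
        exact Or.inr ⟨f ^ k, Subgroup.npow_mem_zpowers f k, hk.symm⟩
    have h1 := Set.ncard_le_ncard hsub
    rw [← Nat.card_coe_set_eq, SetLike.coe_sort_coe, Subgroup.card_subtype] at h1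
    refine h1.trans ((Set.ncard_union_le _ _).trans ?_)
    have h2 : ((Subgroup.zpowers f : Set Λ)).ncard = p := by
      rw [← Nat.card_coe_set_eq, SetLike.coe_sort_coe, Nat.card_zpowers, L.orderOf_f]
    have h3 : ((fun x => g₀ * x) '' (Subgroup.zpowers f : Set Λ)).ncard ≤ p :=
      (Set.ncard_image_le).trans h2.le
    omega
  -- the `2`-core
  set U : Subgroup M := pCore 2 M with hUdef
  have hUQ : U ≤ Q := Cores.pCore_le_sylow Q
  have hU2 : IsPGroup 2 U := Cores.pCore_isPGroup 2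
  have hfU : fM ∉ U := by
    intro h
    obtain ⟨m, hm⟩ := IsPGroup.iff_orderOf.1 hU2 ⟨fM, h⟩
    rw [← Subgroup.orderOf_coe, hfMo] at hm
    exact L.odd ((Nat.prime_dvd_prime_iff_eq L.prime Nat.prime_two).1
      (L.prime.dvd_of_dvd_pow (dvd_of_eq hm)))
  haveI : Nontrivial (M ⧸ U) :=
    ⟨QuotientGroup.mk fM, 1, fun h => hfU ((QuotientGroup.eq_one_iff fM).1 h)⟩
  haveI : Group.IsSolvable (M ⧸ U) :=
    Group.isSolvable_of_surjective (QuotientGroup.mk'_surjective U)
  obtain ⟨N, hN, hN1, hmin⟩ := Cores.MinNormal.exists_minimal (G := M ⧸ U)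
  haveI := hN
  obtain ⟨-, r, hr, hexp⟩ := Cores.MinNormal.elementary_of_solvable hN1 hmin
  have hNr : IsPGroup r N := Cores.MinNormal.isPGroup_of_pow_eq_one hexp
  haveI : Fact r.Prime := ⟨hr⟩
  have hr2 : r ≠ 2 := by
    rintro rfl
    exact hN1 (le_bot_iff.1 (Cores.pCore_quotient_pCore (G := M) 2 ▸ Cores.le_pCore hNr))
  have hrp : r = p := by
    obtain ⟨m, hm⟩ := hNr.exists_card_eq
    have hm0 : m ≠ 0 := fun h0 => hN1 (Subgroup.card_eq_one.1 (by rw [hm, h0, pow_zero]))
    have hdvd : r ∣ Nat.card M := (dvd_pow_self r hm0).trans (hm ▸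
      (Subgroup.card_subgroup_dvd_card N).trans (Subgroup.card_quotient_dvd_card U))
    rw [hMcard] at hdvd
    rcases hr.dvd_mul.1 hdvd with h | h
    · exact absurd ((Nat.prime_dvd_prime_iff_eq hr Nat.prime_two).1 (hr.dvd_of_dvd_pow h)) hr2
    · exact (Nat.prime_dvd_prime_iff_eq hr L.prime).1 h
  subst r
  -- `⟨f⟩` maps onto `N`
  have hPN : (P : Subgroup M) ≤ N.comap (QuotientGroup.mk' U) := by
    have hPm : IsPGroup p ((P : Subgroup M).map (QuotientGroup.mk' U)) := P.isPGroup'.map _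
    obtain ⟨m, hm⟩ := (hPm.to_sup_of_normal_right hNr).exists_card_eq
    have hm1 : m ≤ 1 := by
      have hdvd : p ^ m ∣ Nat.card M :=
        hm ▸ (Subgroup.card_subgroup_dvd_card _).trans (Subgroup.card_quotient_dvd_card U)
      exact hfactp ▸ (Nat.Prime.pow_dvd_iff_le_factorization hr Nat.card_pos.ne').1 hdvd
    have hNle : Nat.card ↥((P : Subgroup M).map (QuotientGroup.mk' U) ⊔ N) ≤ Nat.card N := by
      refine (hm.le.trans (Nat.pow_le_pow_right hr.pos hm1)).trans ?_
      obtain ⟨m', hm'⟩ := hNr.exists_card_eq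
      rcases m' with _ | m'
      · exact absurd (Subgroup.card_eq_one.1 (hm'.trans (pow_zero p))) hN1
      · rw [hm', pow_one]
        exact Nat.le_of_dvd (pow_pos hr.pos _) (dvd_pow_self p (Nat.succ_ne_zero m'))
    have heq := Subgroup.eq_of_le_of_card_ge le_sup_right hNle
    intro x hx
    show QuotientGroup.mk' U x ∈ N
    rw [heq]
    exact Subgroup.mem_sup_left ⟨x, hx, rfl⟩
  -- Frattini argument
  have hcomap : N.comap (QuotientGroup.mk' U) ≤ Subgroup.normalizer (P : Set M) ⊔ U := by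
    intro x hx
    have hfN : QuotientGroup.mk' U fM ∈ N := hPN (Subgroup.mem_zpowers fM)
    have hNo : Nat.card N = p := by
      obtain ⟨m', hm'⟩ := hNr.exists_card_eq
      have hdvd : p ^ m' ∣ Nat.card M :=
        hm' ▸ (Subgroup.card_subgroup_dvd_card N).trans (Subgroup.card_quotient_dvd_card U)
      have hle : m' ≤ 1 :=
        hfactp ▸ (Nat.Prime.pow_dvd_iff_le_factorization hr Nat.card_pos.ne').1 hdvd
      rcases m' with _ | m'
      · exact absurd (Subgroup.card_eq_one.1 (hm'.trans (pow_zero p))) hN1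
      · rw [hm', show m' = 0 by omega, pow_one]
    have hne : QuotientGroup.mk' U fM ≠ 1 := fun h => hfU ((QuotientGroup.eq_one_iff fM).1 h)
    have hgen : (Subgroup.zpowers (QuotientGroup.mk' U fM)) = N := by
      refine Subgroup.eq_of_le_of_card_ge (Subgroup.zpowers_le.2 hfN) ?_
      rw [hNo, Nat.card_zpowers]
      refine le_of_eq (orderOf_eq_prime ?_ hne).symm
      rw [← map_pow, ← hfMo, pow_orderOf_eq_one, map_one]
    have hx' : QuotientGroup.mk' U x ∈ N := hx
    rw [← hgen, ← MonoidHom.map_zpowers] at hx'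
    obtain ⟨y, hy, hyx⟩ := hx'
    have hu : y⁻¹ * x ∈ U := QuotientGroup.eq.1 hyx
    rw [← mul_inv_cancel_left y x]
    exact mul_mem (Subgroup.mem_sup_left (Subgroup.le_normalizer hy))
      (Subgroup.mem_sup_right hu)
  have htop : Subgroup.normalizer (P : Set M) ⊔ U = ⊤ := by
    refine top_le_iff.1 ?_
    rw [← Sylow.normalizer_sup_eq_top' P hPN]
    exact sup_le le_sup_left hcomap
  have hUbig : 2 ^ (p - 1) ≤ Nat.card U := by
    have hmul : ∀ m : M, ∃ x : Subgroup.normalizer (P : Set M) × U, (x.1 : M) * x.2 = m := fun m => by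
      obtain ⟨n, hn, u, hu, rfl⟩ :=
        Subgroup.mem_sup_of_normal_right.1 (htop ▸ Subgroup.mem_top m)
      exact ⟨(⟨n, hn⟩, ⟨u, hu⟩), rfl⟩
    have h1 := Nat.card_le_card_of_surjective
      (fun x : Subgroup.normalizer (P : Set M) × U => (x.1 : M) * x.2) hmul
    rw [Nat.card_prod, hMcard] at h1
    have h2 : 2 ^ p = 2 * 2 ^ (p - 1) := by
      rw [← pow_succ', Nat.sub_add_cancel hr.one_le]
    have h3 := h1.trans (Nat.mul_le_mul_right _ hnorm)
    rw [h2, show 2 * 2 ^ (p - 1) * p = 2 * p * 2 ^ (p - 1) by ring] at h3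
    exact Nat.le_of_mul_le_mul_left h3 (Nat.mul_pos two_pos hr.pos)
  have hUne : U ≠ (Q : Subgroup M) := by
    intro h
    refine hfS fun s => ?_
    simp only [hmemS]
    have hn : ∀ q : M, q ∈ Q ↔ fM * q * fM⁻¹ ∈ Q := fun q => by
      show q ∈ (Q : Subgroup M) ↔ fM * q * fM⁻¹ ∈ (Q : Subgroup M)
      rw [← h]
      exact ⟨fun h => Subgroup.Normal.conj_mem inferInstance q h fM,
        fun h => by simpa [mul_assoc] using Subgroup.Normal.conj_mem inferInstance _ h fM⁻¹⟩
    constructor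
    · rintro ⟨q, hq, rfl⟩; exact ⟨_, (hn q).1 hq, rfl⟩
    · rintro ⟨q, hq, hqs⟩
      refine ⟨fM⁻¹ * q * fM, (hn _).2 (by rwa [show fM * (fM⁻¹ * q * fM) * fM⁻¹ = q by group]), ?_⟩
      show f⁻¹ * (q : Λ) * f = s
      rw [hqs]; group
  have hUcard : Nat.card U = 2 ^ (p - 1) := by
    refine le_antisymm ?_ hUbig
    obtain ⟨m, hm⟩ := hU2.exists_card_eq
    have hlt : Nat.card U < Nat.card Q := by
      refine lt_of_le_of_ne (Subgroup.card_le_of_le hUQ) fun h => hUne ?_
      exact Subgroup.eq_of_le_of_card_ge hUQ h.ge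
    rw [hm, hQ] at hlt
    rw [hm]
    exact Nat.pow_le_pow_right two_pos (by
      have := (Nat.pow_lt_pow_iff_right one_lt_two).1 hlt
      omega)
  -- the centre of `U`
  set Us : Subgroup Λ := U.map M.subtype with hUs
  have hUsS : Us ≤ (S : Subgroup Λ) := by
    rintro _ ⟨u, hu, rfl⟩
    exact (hmemS _).2 ⟨u, hUQ hu, rfl⟩
  have hUscard : Nat.card Us = 2 ^ (p - 1) := by rw [hUs, Subgroup.card_subtype, hUcard]
  have hUnorm : ∀ x ∈ M, ∀ u ∈ Us, x * u * x⁻¹ ∈ Us := by
    rintro x hx _ ⟨u, hu, rfl⟩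
    exact ⟨⟨x, hx⟩ * u * ⟨x, hx⟩⁻¹, Subgroup.Normal.conj_mem inferInstance u hu _, rfl⟩
  have hSM : ∀ s ∈ S, s ∈ M := fun s hs => by
    obtain ⟨q, -, rfl⟩ := (hmemS s).1 hs
    exact q.2
  have hidx : (Us.subgroupOf (S : Subgroup Λ)).index = 2 := by
    have h1 := Subgroup.card_mul_index (Us.subgroupOf (S : Subgroup Λ))
    rw [Nat.card_congr (Subgroup.subgroupOfEquivOfLe hUsS).toEquiv, hUscard,
      show Nat.card (S : Subgroup Λ) = 2 ^ p from L.card_sylow S,
      show 2 ^ p = 2 ^ (p - 1) * 2 by rw [← pow_succ, Nat.sub_add_cancel hr.one_le]] at h1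
    exact Nat.eq_of_mul_eq_mul_left (Nat.two_pow_pos _) h1
  -- a central involution in `U`
  have hzU : z ∈ Us := by
    letI : MulAction (S : Subgroup Λ) Us :=
      { smul := fun s u => ⟨(s : Λ) * u * (s : Λ)⁻¹, hUnorm _ (hSM _ s.2) _ u.2⟩
        one_smul := fun u => Subtype.ext (show (1 : Λ) * u * (1 : Λ)⁻¹ = u by group)
        mul_smul := fun a b u => Subtype.ext (show ((a : Λ) * b) * u * ((a : Λ) * b)⁻¹ =
          (a : Λ) * ((b : Λ) * u * (b : Λ)⁻¹) * (a : Λ)⁻¹ by group) }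
    obtain ⟨u, hu, hu1⟩ := S.isPGroup'.exists_fixed_point_of_prime_dvd_card_of_fixed_point Us
      (hUscard ▸ dvd_pow_self 2 (by have := L.three_le; omega)) (a := 1)
      (fun s => Subtype.ext (show (s : Λ) * 1 * (s : Λ)⁻¹ = 1 by group))
    obtain ⟨m, hm⟩ := IsPGroup.iff_orderOf.1 (hU2.map M.subtype) u
    have huo : orderOf (u : Λ) = 2 ^ m := by rw [Subgroup.orderOf_coe, hm]
    obtain ⟨m', rfl⟩ : ∃ m', m = m' + 1 := ⟨m - 1, by
      have : m ≠ 0 := fun h0 => hu1 (Eq.symm (orderOf_eq_one_iff.1 (by rw [hm, h0, pow_zero])))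
      omega⟩
    have hw : (u : Λ) ^ 2 ^ m' ∈ Us := pow_mem u.2 _
    rcases huniq ((u : Λ) ^ 2 ^ m')
      (by rw [← pow_add, ← two_mul, ← pow_succ', ← huo, pow_orderOf_eq_one]) (fun s hs => by
        have h1 : s * (u : Λ) = u * s :=
          mul_inv_eq_iff_eq_mul.1 (congrArg Subtype.val (hu ⟨s, hs⟩))
        exact (Commute.pow_right h1 _).eq) with h | h
    · exfalso
      have := Nat.le_of_dvd (Nat.two_pow_pos _) (huo ▸ orderOf_dvd_of_pow_eq_one h)
      have := Nat.pow_lt_pow_right (a := 2) one_lt_two (Nat.lt_succ_self m')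
      omega
    · exact h ▸ hw
  let V : Subgroup Λ :=
    { carrier := {x | x ∈ Us ∧ x * x = 1 ∧ ∀ u ∈ Us, x * u = u * x}
      one_mem' := ⟨one_mem _, one_mul 1, fun u _ => by rw [one_mul, mul_one]⟩
      mul_mem' := fun {a b} ha hb => ⟨mul_mem ha.1 hb.1, by
        rw [show a * b * (a * b) = a * (b * a) * b by group, hb.2.2 a ha.1,
          show a * (a * b) * b = (a * a) * (b * b) by group, ha.2.1, hb.2.1, one_mul],
        fun u hu => by rw [mul_assoc, hb.2.2 u hu, ← mul_assoc, ha.2.2 u hu, mul_assoc]⟩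
      inv_mem' := fun {a} ha => by rwa [inv_eq_of_mul_eq_one_right ha.2.1] }
  have hVnorm : ∀ x ∈ M, ∀ w ∈ V, x * w * x⁻¹ ∈ V := by
    rintro x hx w ⟨hw1, hw2, hw3⟩
    refine ⟨hUnorm x hx w hw1, ?_, fun u hu => ?_⟩
    · rw [show x * w * x⁻¹ * (x * w * x⁻¹) = x * (w * w) * x⁻¹ by group, hw2]; group
    · have h := hw3 _ (hUnorm x⁻¹ (inv_mem hx) u hu)
      rw [inv_inv] at h
      calc x * w * x⁻¹ * u = x * (w * (x⁻¹ * u * x)) * x⁻¹ := by group
        _ = u * (x * w * x⁻¹) := by rw [h]; group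
  have hzV : z ∈ V := ⟨hzU, hz, fun u hu => (hzc u (hUsS hu)).symm⟩
  obtain ⟨g, hgS, hgU⟩ : ∃ g ∈ S, g ∉ Us := by
    by_contra! hc
    have h1 : Us.subgroupOf (S : Subgroup Λ) = ⊤ := eq_top_iff.2 fun x _ => hc x x.2
    rw [h1, Subgroup.index_top] at hidx
    exact absurd hidx (by norm_num)
  have hkey : ∀ x ∈ V, g * x = x * g → x = 1 ∨ x = z := by
    intro x hx hgx
    refine huniq x hx.2.1 fun s hs => ?_
    by_cases hsU : s ∈ Us
    · exact (hx.2.2 s hsU).symm
    · have h2 : g⁻¹ * s ∈ Us := by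
        have h3 := (Subgroup.mul_mem_iff_of_index_two hidx (a := (⟨g, hgS⟩⁻¹ : (S : Subgroup Λ)))
          (b := ⟨s, hs⟩)).2 (iff_of_false
            (fun h => hgU (Subgroup.mem_subgroupOf.1 ((Us.subgroupOf (S : Subgroup Λ)).inv_mem_iff.1 h))) hsU)
        exact h3
      calc s * x = g * ((g⁻¹ * s) * x) := by group
        _ = g * x * (g⁻¹ * s) := by rw [← hx.2.2 _ h2]; group
        _ = x * s := by rw [hgx]; group
  have hg2 : g * g ∈ Us := Subgroup.mul_self_mem_of_index_two hidx (⟨g, hgS⟩ : (S : Subgroup Λ))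
  let φ : V →* V := MonoidHom.mk'
    (fun x => x * ⟨g * x * g⁻¹, hVnorm g (hSM g hgS) x x.2⟩)
    (fun a b => Subtype.ext (by
      show (a : Λ) * b * (g * ((a : Λ) * b) * g⁻¹) =
        (a : Λ) * (g * a * g⁻¹) * ((b : Λ) * (g * b * g⁻¹))
      have h := b.2.2.2 (g * a * g⁻¹) (hVnorm g (hSM g hgS) a a.2).1
      calc (a : Λ) * b * (g * ((a : Λ) * b) * g⁻¹)
          = (a : Λ) * ((b : Λ) * (g * a * g⁻¹)) * (g * b * g⁻¹) := by group
        _ = _ := by rw [h]; group))
  have hsmall : ∀ H : Subgroup V, (∀ x ∈ H, g * (x : Λ) = x * g) → Nat.card H ≤ 2 := by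
    intro H hH
    have hsub : (H.map V.subtype : Set Λ) ⊆ {1, z} := by
      rintro _ ⟨x, hx, rfl⟩
      rcases hkey x x.2 (hH x hx) with h | h
      · exact Or.inl h
      · exact Or.inr h
    have h1 := Set.ncard_le_ncard hsub
    rw [← Nat.card_coe_set_eq, SetLike.coe_sort_coe, Subgroup.card_subtype] at h1
    refine h1.trans ((Set.ncard_insert_le _ _).trans ?_)
    rw [Set.ncard_singleton]
  have hker : Nat.card φ.ker ≤ 2 := hsmall _ fun x hx => by
    have h : (x : Λ) * (g * x * g⁻¹) = 1 := congrArg Subtype.val hx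
    have h2 : g * (x : Λ) * g⁻¹ = x := by
      rw [← inv_eq_of_mul_eq_one_right h, inv_eq_of_mul_eq_one_right x.2.2.1]
    exact mul_inv_eq_iff_eq_mul.1 h2
  have hrange : Nat.card φ.range ≤ 2 := hsmall _ fun x hx => by
    obtain ⟨y, rfl⟩ := hx
    show g * ((y : Λ) * (g * y * g⁻¹)) = (y : Λ) * (g * y * g⁻¹) * g
    calc g * ((y : Λ) * (g * y * g⁻¹)) = (g * y * g⁻¹) * ((g * g) * y) * g⁻¹ := by group
      _ = (g * y * g⁻¹) * ((y : Λ) * (g * g)) * g⁻¹ := by rw [y.2.2.2 _ hg2]
      _ = ((g * y * g⁻¹) * y) * g := by group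
      _ = _ := by rw [y.2.2.2 _ (hVnorm g (hSM g hgS) y y.2).1]
  have hVle : Nat.card V ≤ 4 := by
    rw [← Subgroup.card_mul_index φ.ker, Subgroup.index_ker φ]
    exact Nat.mul_le_mul hker hrange
  have hV2 : 2 ≤ Nat.card V := by
    haveI : Nontrivial V := ⟨⟨z, hzV⟩, 1, fun h => hz1 (congrArg Subtype.val h)⟩
    exact Finite.one_lt_card
  -- `f` has no fixed involution
  set H := Subgroup.zpowers f
  have hH : IsPGroup p H := IsPGroup.of_card (n := 1) (by rw [pow_one, Nat.card_zpowers, L.orderOf_f])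
  letI : MulAction H V :=
    { smul := fun h x => ⟨(h : Λ) * x * (h : Λ)⁻¹,
        hVnorm _ (Subgroup.zpowers_le.2 hf h.2) _ x.2⟩
      one_smul := fun u => Subtype.ext (show (1 : Λ) * u * (1 : Λ)⁻¹ = u by group)
      mul_smul := fun a b u => Subtype.ext (show ((a : Λ) * b) * u * ((a : Λ) * b)⁻¹ =
        (a : Λ) * ((b : Λ) * u * (b : Λ)⁻¹) * (a : Λ)⁻¹ by group) }
  have hfix : fixedPoints H V = {1} := by
    refine Set.eq_singleton_iff_unique_mem.2
      ⟨fun h => Subtype.ext (show (h : Λ) * 1 * (h : Λ)⁻¹ = 1 by group), fun x hx => ?_⟩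
    by_contra hx1
    exact L.not_commute x.2.2.1 (fun e => hx1 (Subtype.ext e)) hr L.odd L.pow_p L.f_ne
      (mul_inv_eq_iff_eq_mul.1 (congrArg Subtype.val (hx ⟨f, Subgroup.mem_zpowers f⟩)))
  have hmod := hH.card_modEq_card_fixedPoints V
  rw [hfix, Nat.card_eq_fintype_card (α := ({1} : Set V)), Set.card_singleton] at hmod
  have hdvd : p ∣ Nat.card V - 1 := (Nat.modEq_iff_dvd' (by omega)).1 hmod.symm
  have hle := Nat.le_of_dvd (by omega) hdvd
  have := L.three_le
  omega

end Cfsg.Agent.Lib.Crit5.Pure.Lone
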