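import Cfsg.Agent.Lib.Crit5.Pure.Transfer
import Cfsg.Agent.Lib.Crit5.Pure.Small

/-!
# Section P of the single fixed point criterion: the linear group is `L₃(2)`

By induction along the transfer only a field automorphism with two fixed points remains, so
`|E| = 8` and the kernel of the cocycle has order `21`.
-/

set_option autoImplicit false
set_option linter.style.haveILetI false

namespace Cfsg.Agent.Lib.Crit5.Pure.Twist

open MulAction

universe u w

variable {E : Type w} [CommGroup E]

theorem linear_aux : ∀ (n : ℕ) {Λ : Type u} [Group Λ] [Finite Λ] [MulDistribMulAction Λ E]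
    (v : Λ → E) (C : Subgroup Λ), Twist Λ E v C → Nat.card Λ = n →
      ∃ (f : Λ) (e₀ : E), Lone v C f 3 e₀ := by
  intro n
  induction n using Nat.strong_induction_on with
  | _ n ih =>
  intro Λ _ _ _ v C T hn
  classical
  haveI := T.finite_space
  haveI := Fintype.ofFinite E
  obtain ⟨A, _, _, φ, hA, hker, hq, hfix⟩ := T.galois
  haveI := hA
  obtain ⟨e₀, he₀⟩ := T.exists_vec
  have hcardC : Nat.card C + 1 = Nat.card E := T.card_cyclic
  have hstab : Nat.card T.stab = Nat.card C * Nat.card φ.range := by
    rw [← Subgroup.card_mul_index φ.ker, Subgroup.index_ker]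
    congr 1
    refine Nat.card_congr ⟨fun x => ⟨x.1.1, (hker _).1 x.2⟩,
      fun c => ⟨⟨c.1, T.fixed c.1 c.2⟩, (hker _).2 c.2⟩, fun x => rfl, fun c => rfl⟩
  by_cases hodd : ∃ p : ℕ, p.Prime ∧ p ≠ 2 ∧ p ∣ Nat.card φ.range
  · obtain ⟨p, hp, hp2, hdvd⟩ := hodd
    haveI := Fact.mk hp
    obtain ⟨a, ha⟩ := exists_prime_orderOf_dvd_card' p hdvd
    obtain ⟨h, hh⟩ := a.2
    obtain ⟨f, hfe, hfφ⟩ := T.exists_lift φ hker he₀ h
    have hf : orderOf (φ f) = p := by rw [hfφ, hh, Subgroup.orderOf_coe, ha]
    have hfp : f ^ p = 1 := T.pow_eq_one φ hker hp he₀ hfe hf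
    by_cases hbig : 3 ≤ Nat.card {e : E // (f : Λ) • e = e} ∨
        ∃ g : Λ, g * f = f * g ∧ v g ≠ 1
    · exfalso
      obtain ⟨Λ₁, hf1, hC1, T₁⟩ := T.descend φ hker hp he₀ hfe hf hp2 hbig
      have hlt : Nat.card Λ₁ < n := by
        rw [← hn]
        refine lt_of_le_of_ne (Subgroup.card_le_card_group Λ₁) fun h => hf1 ?_
        rw [Subgroup.eq_top_of_card_eq Λ₁ h]
        exact Subgroup.mem_top _
      obtain ⟨f₁, e₁, L⟩ := ih _ hlt (fun g : Λ₁ => v g) (C.subgroupOf Λ₁) T₁ rfl
      have h8 := L.card
      have h21 := L.card_stab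
      have hA3 : Nat.card A = 3 := Nat.pow_right_injective (le_refl 2) (by
        show 2 ^ Nat.card A = 2 ^ 3
        rw [← hq, h8])
      have hle : Nat.card T.stab ≤ Nat.card L.twist.stab := by
        rw [hstab, h21, ← hA3]
        have : Nat.card C = 2 ^ 3 - 1 := by omega
        rw [this, hA3]
        exact Nat.mul_le_mul_left _ ((Subgroup.card_le_card_group φ.range).trans hA3.le)
      have hsub : L.twist.stab.map Λ₁.subtype ≤ T.stab := by
        rintro _ ⟨x, hx, rfl⟩
        exact hx
      have heq := Subgroup.eq_of_le_of_card_ge hsub (by rw [Subgroup.card_subtype]; exact hle)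
      refine hf1 ?_
      obtain ⟨x, -, hx⟩ : (f : Λ) ∈ L.twist.stab.map Λ₁.subtype := by rw [heq]; exact f.2
      rw [← hx]
      exact x.2
    · have htwo : Nat.card {e : E // (f : Λ) • e = e} = 2 := by
        refine le_antisymm (Nat.le_of_lt_succ (not_le.1 fun h => hbig (Or.inl h))) ?_
        haveI : Nontrivial {e : E // (f : Λ) • e = e} :=
          ⟨⟨e₀, hfe⟩, ⟨1, smul_one _⟩, fun h => he₀ (congrArg Subtype.val h)⟩
        exact Finite.one_lt_card
      have hqp : Nat.card E = 2 ^ p := by rw [hfix f e₀ he₀ hfe, htwo, hf]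
      have hAp : Nat.card A = p := Nat.pow_right_injective (le_refl 2) (hq.symm.trans hqp)
      have hgen : Subgroup.zpowers (φ f) = ⊤ :=
        Subgroup.eq_top_of_card_eq _ (by rw [Nat.card_zpowers, hf, hAp])
      have hrange : φ.range = ⊤ := top_le_iff.1 (hgen ▸ Subgroup.zpowers_le.2 ⟨f, rfl⟩)
      have hL : Lone v C (f : Λ) p e₀ :=
        { twist := T
          prime := hp
          odd := hp2
          card := hqp
          card_stab := by
            rw [hstab, hrange, Subgroup.card_top, hAp]
            congr 1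
            omega
          vec_ne := he₀
          fixed := f.2
          fix := hfe
          pow_p := by rw [← Subgroup.coe_pow, hfp, Subgroup.coe_one]
          f_ne := fun h => by
            rw [show f = 1 from Subtype.ext h, map_one, orderOf_one] at hf
            exact hp.ne_one hf.symm
          only := fun e he => by
            by_contra! hne
            have hsub : ({1, e₀, e} : Finset E) ⊆
                Finset.univ.filter fun x : E => (f : Λ) • x = x := by
              intro x hx
              simp only [Finset.mem_insert, Finset.mem_singleton] at hx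
              refine Finset.mem_filter.2 ⟨Finset.mem_univ _, ?_⟩
              rcases hx with rfl | rfl | rfl
              exacts [smul_one _, hfe, he]
            have h3 := Finset.card_le_card hsub
            rw [Finset.card_eq_three.2 ⟨1, e₀, e, he₀.symm, hne.1.symm, hne.2.symm, rfl⟩,
              ← Fintype.card_subtype, ← Nat.card_eq_fintype_card, htwo] at h3
            omega
          cent := fun g hg => by
            by_contra h1
            exact hbig (Or.inr ⟨g, hg, h1⟩)
          pair := fun x hx hxe => by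
            have hmem : φ ⟨x, hx⟩ ∈ Subgroup.zpowers (φ f) := hgen ▸ Subgroup.mem_top _
            obtain ⟨k, hk⟩ := mem_powers_iff_mem_zpowers.2 hmem
            refine ⟨k, ?_⟩
            have h1 : (⟨x, hx⟩ : T.stab) = f ^ k := T.lift_unique φ hker he₀ (e := e₀) hxe
              (by rw [Subgroup.coe_pow]; exact pow_mem (show (f : Λ) ∈ stabilizer Λ e₀ from hfe) k)
              (by rw [map_pow]; exact hk.symm)
            rw [← Subgroup.coe_pow, ← h1] }
      obtain rfl := hL.three
      exact ⟨f, e₀, hL⟩
  · exfalso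
    refine T.not_isSolvable ?_
    obtain ⟨m, hm⟩ : ∃ m, Nat.card φ.range = 2 ^ m :=
      ⟨_, Nat.eq_prime_pow_of_unique_prime_dvd Nat.card_pos.ne' fun {r} hr hd => by
        by_contra h2; exact hodd ⟨r, hr, h2, hd⟩⟩
    set M : Subgroup Λ := stabilizer Λ e₀
    have horb : orbit Λ e₀ = {1}ᶜ := by
      ext e
      refine ⟨?_, fun he => ?_⟩
      · rintro ⟨g, rfl⟩ h
        exact T.smul_ne_one he₀ h
      · obtain ⟨c, -, rfl⟩ := T.trans e₀ e he₀ he
        exact ⟨c, rfl⟩
    have hM : IsPGroup 2 M := by
      refine IsPGroup.of_card (n := Nat.card A + m) ?_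
      have h := Subgroup.card_mul_index M
      rw [index_stabilizer, horb, Set.ncard_compl, Set.ncard_singleton,
        show Nat.card E - 1 = Nat.card C by omega, T.card_eq, hstab, hm,
        show Nat.card E * (Nat.card C * 2 ^ m) = Nat.card E * 2 ^ m * Nat.card C by ring] at h
      rw [Nat.eq_of_mul_eq_mul_right Nat.card_pos h, hq, pow_add]
    haveI : IsMulCommutative C := ⟨⟨fun a b => Subtype.ext (T.comm a a.2 b b.2)⟩⟩
    haveI : Fact (Nat.Prime 2) := ⟨Nat.prime_two⟩
    refine KegelWielandt.isSolvable (A := C) (B := M) ?_ hM.isNilpotent fun g => ?_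
    · letI : CommGroup C := { (inferInstance : Group C) with mul_comm := mul_comm' }
      exact CommGroup.isNilpotent
    · obtain ⟨c, hc, hce⟩ := T.trans (g • e₀) e₀ (T.smul_ne_one he₀) he₀
      exact ⟨c⁻¹, inv_mem hc, c * g,
        show (c * g) • e₀ = e₀ by rw [mul_smul, hce], by group⟩

/-- **The linear group**: `|E| = 8` and an element of order three has two fixed points. -/
theorem linear {Λ : Type u} [Group Λ] [MulDistribMulAction Λ E] {v : Λ → E} {C : Subgroup Λ}
    (T : Twist Λ E v C) : ∃ (f : Λ) (e₀ : E), Lone v C f 3 e₀ := by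
  haveI := T.finite_space
  haveI : Finite Λ := Finite.of_injective (fun g : Λ => fun e : E => g • e) fun g h hgh => by
    refine (inv_mul_eq_one.1 (T.eq_one (h⁻¹ * g) fun e => ?_)).symm
    rw [mul_smul, show g • e = h • e from congrFun hgh e, inv_smul_smul]
  exact linear_aux _ v C T rfl

end Cfsg.Agent.Lib.Crit5.Pure.Twist
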