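import Cfsg.Agent.Lib.Crit5.Pure.Field

/-!
# Section P of the single fixed point criterion: a field automorphism with two fixed points

The automorphism `f` of prime order `p` has two fixed points and is its own centraliser, so
`|E| = 2 ^ p`.  Here: there are `(2 ^ p - 1) * p` involutions, none of them commutes with an element
of odd prime order, a Sylow `2`-subgroup is self-normalising and has one central involution.
-/

set_option autoImplicit false
set_option linter.style.haveILetI false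

namespace Cfsg.Agent.Lib.Crit5.Pure

open MulAction

universe u w

variable {Λ : Type u} {E : Type w} [Group Λ] [CommGroup E] [MulDistribMulAction Λ E]

/-- The setting of a field automorphism `f` with two fixed points. -/
structure Lone (v : Λ → E) (C : Subgroup Λ) (f : Λ) (p : ℕ) (e₀ : E) : Prop where
  twist : Twist Λ E v C
  prime : p.Prime
  odd : p ≠ 2
  card : Nat.card E = 2 ^ p
  card_stab : Nat.card twist.stab = (2 ^ p - 1) * p
  vec_ne : e₀ ≠ 1
  fixed : v f = 1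
  fix : f • e₀ = e₀
  pow_p : f ^ p = 1
  f_ne : f ≠ 1
  only : ∀ e, f • e = e → e = 1 ∨ e = e₀
  cent : ∀ g, g * f = f * g → v g = 1
  pair : ∀ h, v h = 1 → h • e₀ = e₀ → ∃ k : ℕ, h = f ^ k

namespace Lone

variable {v : Λ → E} {C : Subgroup Λ} {f : Λ} {p : ℕ} {e₀ : E} (L : Lone v C f p e₀)
include L

theorem three_le : 3 ≤ p := lt_of_le_of_ne L.prime.two_le L.odd.symm

theorem orderOf_f : orderOf f = p := by
  haveI := Fact.mk L.prime
  exact orderOf_eq_prime L.pow_p L.f_ne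

/-- `2 ^ p - 1` is one modulo `p`. -/
theorem not_dvd_sub : ¬ p ∣ 2 ^ p - 1 := by
  intro h
  haveI := Fact.mk L.prime
  have h1 : ((2 ^ p - 1 : ℕ) : ZMod p) = 0 := (ZMod.natCast_eq_zero_iff _ _).2 h
  rw [Nat.cast_sub Nat.one_le_two_pow, Nat.cast_pow, ZMod.pow_card] at h1
  norm_num at h1

theorem odd_stab : Odd (Nat.card L.twist.stab) := by
  rw [L.card_stab]
  refine Odd.mul ?_ (L.prime.odd_of_ne_two L.odd)
  refine Nat.Even.sub_odd Nat.one_le_two_pow ?_ odd_one
  exact Nat.even_pow.2 ⟨even_two, L.prime.ne_zero⟩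

theorem card_group : Nat.card Λ = 2 ^ p * ((2 ^ p - 1) * p) := by
  rw [L.twist.card_eq, L.card, L.card_stab]

theorem finite : Finite Λ := Nat.finite_of_card_ne_zero (by
  rw [L.card_group]
  have := Nat.one_lt_two_pow L.prime.ne_zero
  exact Nat.mul_ne_zero (by omega) (Nat.mul_ne_zero (by omega) L.prime.ne_zero))

theorem v_invol_ne {z : Λ} (hz : z * z = 1) (h1 : z ≠ 1) : v z ≠ 1 := by
  intro hv
  haveI := L.finite
  have h2 : orderOf z ∣ 2 := orderOf_dvd_of_pow_eq_one (by rw [sq, hz])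
  rcases (Nat.dvd_prime Nat.prime_two).1 h2 with h | h
  · exact h1 (orderOf_eq_one_iff.1 h)
  · have h3 := L.twist.stab.orderOf_dvd_natCard hv
    rw [h] at h3
    exact (Nat.not_even_iff_odd.2 L.odd_stab) (even_iff_two_dvd.2 h3)

theorem smul_v_of_invol {z : Λ} (hz : z * z = 1) : z • v z = v z := by
  have h1 := L.twist.cocycle z z
  rw [hz, L.twist.v_one] at h1
  rw [eq_comm, mul_eq_one_iff_eq_inv, L.twist.inv_self] at h1
  exact h1.symm

/-- An element inverting `f` and exchanging the two fixed points. -/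
theorem exists_swapper : ∃ g₀ : Λ, v g₀ = e₀ ∧ g₀ • e₀ = e₀ ∧
    ∀ z : Λ, v z = e₀ → (z • e₀ = e₀ ↔ ∃ k : ℕ, z = g₀ * f ^ k) ∧ (z • e₀ = e₀ → z * z = 1) := by
  have T := L.twist
  obtain ⟨g, hg⟩ := T.surj e₀
  obtain ⟨c, hc, hce⟩ := T.trans e₀ (g⁻¹ • e₀) L.vec_ne
    (fun h => L.vec_ne (smul_left_cancel g⁻¹ (h.trans (smul_one _).symm)))
  set g₀ := g * c with hg₀
  have h1 : v g₀ = e₀ := by rw [hg₀, T.cocycle, T.fixed c hc, smul_one, mul_one, hg]
  have h2 : g₀ • e₀ = e₀ := by rw [hg₀, mul_smul, hce, smul_inv_smul]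
  have hsq : ∃ i : ℕ, g₀ * g₀ = f ^ i := L.pair _
    (by rw [T.cocycle, h1, h2, T.mul_self]) (by rw [mul_smul, h2, h2])
  have hinv : v g₀⁻¹ = e₀ := by rw [T.v_inv, h1, inv_smul_eq_iff, h2]
  have hconj : ∃ j : ℕ, g₀ * f * g₀⁻¹ = f ^ j := by
    refine L.pair _ ?_ ?_
    · rw [T.cocycle, T.cocycle, L.fixed, smul_one, mul_one, mul_smul, hinv, h1, L.fix, h2,
        T.mul_self]
    · rw [mul_smul, mul_smul, inv_smul_eq_iff.2 h2.symm, L.fix, h2]
  obtain ⟨i, hi⟩ := hsq
  obtain ⟨j, hj⟩ := hconj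
  haveI := Fact.mk L.prime
  -- `g₀` inverts `f`
  have hjj : f ^ (j * j) = f := by
    rw [pow_mul, ← hj, conj_pow, ← hj, show g₀ * (g₀ * f * g₀⁻¹) * g₀⁻¹ =
      (g₀ * g₀) * f * (g₀ * g₀)⁻¹ by group, hi, mul_inv_eq_iff_eq_mul]
    exact (Commute.self_pow f i).symm.eq
  have hflip : g₀ * f * g₀⁻¹ = f⁻¹ := by
    have h3 : ((j * j : ℕ) : ZMod p) = ((1 : ℕ) : ZMod p) := by
      rw [ZMod.natCast_eq_natCast_iff, ← L.orderOf_f, ← pow_eq_pow_iff_modEq, pow_one, hjj]
    push_cast at h3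
    rcases mul_self_eq_one_iff.1 h3 with h | h
    · exfalso
      have h4 : g₀ * f = f * g₀ := by
        rw [← mul_inv_eq_iff_eq_mul, hj]
        conv_rhs => rw [← pow_one f]
        rw [pow_eq_pow_iff_modEq, L.orderOf_f, ← ZMod.natCast_eq_natCast_iff, Nat.cast_one, h]
      exact L.vec_ne (h1.symm.trans (L.cent g₀ h4))
    · rw [hj, eq_inv_iff_mul_eq_one, ← pow_succ]
      refine orderOf_dvd_iff_pow_eq_one.1 ?_
      rw [L.orderOf_f, ← ZMod.natCast_eq_zero_iff, Nat.cast_succ, h, neg_add_cancel]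
  have hg0 : g₀ * g₀ = 1 := by
    have h3 : g₀ * f ^ i * g₀⁻¹ = (f ^ i)⁻¹ := by rw [← conj_pow, hflip, inv_pow]
    rw [← hi, show g₀ * (g₀ * g₀) * g₀⁻¹ = g₀ * g₀ by group] at h3
    have h4 : f ^ (i + i) = 1 := by
      rw [pow_add, ← hi]
      exact eq_inv_iff_mul_eq_one.1 h3
    rw [hi]
    refine orderOf_dvd_iff_pow_eq_one.1 ?_
    rw [← orderOf_dvd_iff_pow_eq_one, L.orderOf_f, ← two_mul] at h4
    rw [L.orderOf_f]
    exact (L.prime.dvd_mul.1 h4).resolve_left fun h =>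
      L.odd ((Nat.prime_dvd_prime_iff_eq L.prime Nat.prime_two).1 h)
  refine ⟨g₀, h1, h2, fun z hz => ?_⟩
  have hiff : z • e₀ = e₀ ↔ ∃ k : ℕ, z = g₀ * f ^ k := by
    constructor
    · intro h
      obtain ⟨k, hk⟩ := L.pair (g₀⁻¹ * z) (by rw [T.cocycle, hinv, hz, inv_smul_eq_iff.2 h2.symm,
        T.mul_self]) (by rw [mul_smul, h, inv_smul_eq_iff.2 h2.symm])
      exact ⟨k, by rw [← hk, mul_inv_cancel_left]⟩
    · rintro ⟨k, rfl⟩
      rw [mul_smul, show f ^ k • e₀ = e₀ from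
        pow_mem (show f ∈ stabilizer Λ e₀ from L.fix) k, h2]
  refine ⟨hiff, fun h => ?_⟩
  obtain ⟨k, rfl⟩ := hiff.1 h
  calc g₀ * f ^ k * (g₀ * f ^ k) = g₀ * f ^ k * g₀⁻¹ * (g₀ * g₀) * f ^ k := by group
    _ = 1 := by rw [← conj_pow, hflip, hg0, mul_one, inv_pow, inv_mul_cancel]

/-- The involutions with a given image are `p` in number. -/
theorem card_fibre {e : E} (he : e ≠ 1) :
    Nat.card {z : Λ // z * z = 1 ∧ v z = e} = p := by
  haveI := L.finite
  have T := L.twist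
  obtain ⟨c, hc, hce⟩ := T.trans e₀ e L.vec_ne he
  have hv : ∀ {d : Λ}, d ∈ C → ∀ z, v (d * z * d⁻¹) = d • v z := by
    intro d hd z
    rw [T.cocycle, T.cocycle, T.fixed d hd, T.fixed _ (inv_mem hd), one_mul, smul_one, mul_one]
  have hsq : ∀ (d z : Λ), z * z = 1 → d * z * d⁻¹ * (d * z * d⁻¹) = 1 := by
    intro d z hz
    rw [show d * z * d⁻¹ * (d * z * d⁻¹) = d * (z * z) * d⁻¹ by group, hz, mul_one, mul_inv_cancel]
  rw [← Nat.card_congr (Equiv.subtypeEquiv (MulAut.conj c).toEquiv fun z => ?_ :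
    {z : Λ // z * z = 1 ∧ v z = e₀} ≃ _)]
  · obtain ⟨g₀, hg, -, hz⟩ := L.exists_swapper
    have hset : {z : Λ | z * z = 1 ∧ v z = e₀} =
        (fun x => g₀ * x) '' (Subgroup.zpowers f : Set Λ) := by
      ext z
      constructor
      · rintro ⟨h1, h2⟩
        obtain ⟨k, rfl⟩ := (hz z h2).1.1 (by rw [← h2]; exact L.smul_v_of_invol h1)
        exact ⟨f ^ k, Subgroup.npow_mem_zpowers f k, rfl⟩
      · rintro ⟨x, hx, rfl⟩
        obtain ⟨k, rfl⟩ := mem_powers_iff_mem_zpowers.2 hx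
        have h2 : v (g₀ * f ^ k) = e₀ := by
          rw [T.cocycle, hg, show v (f ^ k) = 1 from T.stab.pow_mem L.fixed k, smul_one, mul_one]
        exact ⟨(hz _ h2).2 ((hz _ h2).1.2 ⟨k, rfl⟩), h2⟩
    calc Nat.card {z : Λ // z * z = 1 ∧ v z = e₀} = ({z : Λ | z * z = 1 ∧ v z = e₀}).ncard :=
          Nat.card_coe_set_eq _
      _ = p := by
        rw [hset, Set.ncard_image_of_injective _ (mul_right_injective g₀), ← Nat.card_coe_set_eq]
        exact (Nat.card_zpowers f).trans L.orderOf_f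
  · show z * z = 1 ∧ v z = e₀ ↔ c * z * c⁻¹ * (c * z * c⁻¹) = 1 ∧ v (c * z * c⁻¹) = e
    rw [hv hc, ← hce]
    refine ⟨fun h => ⟨hsq c z h.1, by rw [h.2]⟩, fun h => ⟨?_, smul_left_cancel c h.2⟩⟩
    have := hsq c⁻¹ _ h.1
    rwa [show c⁻¹ * (c * z * c⁻¹) * c⁻¹⁻¹ = z by group] at this

theorem card_invol : Nat.card {z : Λ // z * z = 1 ∧ z ≠ 1} = (2 ^ p - 1) * p := by
  haveI := L.finite
  haveI := L.twist.finite_space
  haveI := Fintype.ofFinite E
  classical
  let e : {z : Λ // z * z = 1 ∧ z ≠ 1} ≃ Σ x : {x : E // x ≠ 1}, {z : Λ // z * z = 1 ∧ v z = x} :=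
    { toFun := fun z => ⟨⟨v z.1, L.v_invol_ne z.2.1 z.2.2⟩, ⟨z.1, z.2.1, rfl⟩⟩
      invFun := fun x => ⟨x.2.1, x.2.2.1, fun h => x.1.2 (by rw [← x.2.2.2, h, L.twist.v_one])⟩
      left_inv := fun z => rfl
      right_inv := by
        rintro ⟨⟨x, hx⟩, ⟨z, h1, h2⟩⟩
        obtain rfl : v z = x := h2
        rfl }
  rw [Nat.card_congr e, Nat.card_sigma, Finset.sum_congr rfl fun x _ => L.card_fibre x.2]
  have h := L.twist.card_cyclic
  rw [L.card] at h
  rw [Finset.sum_const, Finset.card_univ, smul_eq_mul, Fintype.card_subtype_compl,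
    Fintype.card_subtype_eq, ← Nat.card_eq_fintype_card, L.card]

/-- An element of odd prime order is conjugate into `C` or to a power of `f`. -/
theorem classify {g : Λ} {r : ℕ} (hr : r.Prime) (hr2 : r ≠ 2) (hg : g ^ r = 1) (h1 : g ≠ 1) :
    ∃ k : Λ, (k⁻¹ * g * k ∈ C ∧ r ∣ 2 ^ p - 1) ∨ (∃ i : ℕ, k⁻¹ * g * k = f ^ i ∧ r = p) := by
  haveI := L.finite
  haveI := L.twist.finite_space
  haveI := Fact.mk hr
  have T := L.twist
  have hord : orderOf g = r := orderOf_eq_prime hg h1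
  have hP : IsPGroup r (Subgroup.zpowers g) :=
    IsPGroup.of_card (n := 1) (by rw [pow_one, Nat.card_zpowers, hord])
  obtain ⟨x, hx⟩ := hP.nonempty_fixed_point_of_prime_not_dvd_card (Λ ⧸ T.stab) (by
    have h2 := Subgroup.card_eq_card_quotient_mul_card_subgroup T.stab
    rw [T.card_eq] at h2
    rw [← Nat.eq_of_mul_eq_mul_right Nat.card_pos h2, L.card]
    exact fun h => hr2 ((Nat.prime_dvd_prime_iff_eq hr Nat.prime_two).1 (hr.dvd_of_dvd_pow h)))
  induction x using QuotientGroup.induction_on with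
  | _ k =>
    have hmem : k⁻¹ * g * k ∈ T.stab := by
      have h3 : (QuotientGroup.mk (g * k) : Λ ⧸ T.stab) = QuotientGroup.mk k :=
        hx ⟨g, Subgroup.mem_zpowers g⟩
      have h4 := QuotientGroup.eq.1 h3.symm
      rwa [← mul_assoc] at h4
    set u : T.stab := ⟨_, hmem⟩ with hu
    have hur : u ^ r = 1 := Subtype.ext (by
      show (k⁻¹ * g * k) ^ r = 1
      rw [show k⁻¹ * g * k = k⁻¹ * g * k⁻¹⁻¹ by group, conj_pow, hg, mul_one, mul_inv_cancel])
    have hu1 : u ≠ 1 := fun h => h1 (by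
      have h' : k⁻¹ * g * k = 1 := congrArg Subtype.val h
      calc g = k * (k⁻¹ * g * k) * k⁻¹ := by group
        _ = 1 := by rw [h']; group)
    have hou : orderOf u = r := orderOf_eq_prime hur hu1
    have hrd : r ∣ (2 ^ p - 1) * p := L.card_stab ▸ hou ▸ orderOf_dvd_natCard u
    rcases hr.dvd_mul.1 hrd with h | h
    · refine ⟨k, Or.inl ⟨?_, h⟩⟩
      set K : Subgroup T.stab := C.subgroupOf T.stab
      haveI : K.Normal := ⟨fun c hc s => T.normal s.1 s.2 c.1 hc⟩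
      have hK : Nat.card K = 2 ^ p - 1 := by
        rw [Nat.card_congr (Subgroup.subgroupOfEquivOfLe T.le_stab).toEquiv]
        have h2 := T.card_cyclic
        rw [L.card] at h2
        omega
      have hidx : Nat.card (T.stab ⧸ K) = p := by
        have h2 := Subgroup.card_eq_card_quotient_mul_card_subgroup K
        rw [L.card_stab, hK, mul_comm] at h2
        exact (Nat.eq_of_mul_eq_mul_right (hK ▸ Nat.card_pos) h2).symm
      have hrp : r ≠ p := fun e => L.not_dvd_sub (e ▸ h)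
      have hq : (QuotientGroup.mk' K u) = 1 := by
        rw [← orderOf_eq_one_iff]
        refine Nat.eq_one_of_dvd_coprimes ((Nat.coprime_primes hr L.prime).2 hrp) ?_ ?_
        · exact hou ▸ orderOf_map_dvd (QuotientGroup.mk' K) u
        · exact hidx ▸ orderOf_dvd_natCard _
      exact (QuotientGroup.eq_one_iff u).1 hq
    · have hrp : r = p := (Nat.prime_dvd_prime_iff_eq hr L.prime).1 h
      subst hrp
      have hP' : IsPGroup r (Subgroup.zpowers (u : Λ)) :=
        IsPGroup.of_card (n := 1) (by rw [pow_one, Nat.card_zpowers, Subgroup.orderOf_coe, hou])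
      obtain ⟨w, hw, hw1⟩ : ∃ w ∈ fixedPoints (Subgroup.zpowers (u : Λ)) E, w ≠ 1 := by
        by_contra! hc
        have hsing : fixedPoints (Subgroup.zpowers (u : Λ)) E = {1} :=
          Set.eq_singleton_iff_unique_mem.2 ⟨fun s => smul_one (s : Λ), hc⟩
        have hmod := hP'.card_modEq_card_fixedPoints E
        rw [hsing, L.card, Nat.card_eq_fintype_card (α := ({1} : Set E)),
          Set.card_singleton] at hmod
        exact L.not_dvd_sub ((Nat.modEq_iff_dvd' Nat.one_le_two_pow).1 hmod.symm)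
      obtain ⟨c, hc, hce⟩ := T.trans w e₀ hw1 L.vec_ne
      obtain ⟨i, hi⟩ := L.pair (c * (u : Λ) * c⁻¹)
        (T.mem_stab.1 (mul_mem (mul_mem (T.fixed c hc) u.2) (inv_mem (T.fixed c hc))))
        (by rw [mul_smul, mul_smul, inv_smul_eq_iff.2 hce.symm,
          show (u : Λ) • w = w from hw ⟨_, Subgroup.mem_zpowers _⟩, hce])
      refine ⟨k * c⁻¹, Or.inr ⟨i, ?_, rfl⟩⟩
      rw [← hi]
      show (k * c⁻¹)⁻¹ * g * (k * c⁻¹) = c * (k⁻¹ * g * k) * c⁻¹
      group

end Lone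

end Cfsg.Agent.Lib.Crit5.Pure
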