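import Cfsg.Agent.Lib.Crit5.CountsBasic
import Cfsg.Agent.Lib.Crit5.Pure.Eight

/-!
# Section P of the single fixed point criterion: the members at the point

A member at `a` centralising the `3`-element centralises `x`, so `r = 1`: the members at `a` are
those of `x`, and every involution fixing `a` centralises them.  A `2`-element normalising a group
with these members at `a` and moving another point centralises them.
-/

set_option autoImplicit false
set_option linter.style.haveILetI false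
set_option linter.unusedSectionVars false

namespace Cfsg.Agent.Lib.Crit5.Pure

open MulAction Cfsg.Agent.Lib.Involutions.Basic
open Cfsg.Agent.Lib.Crit8 (Pre Action Bad memAt loc)
open Cfsg.Agent.Lib.Crit5.Shape

universe u

variable {G Ω : Type u} [Group G] [MulAction G Ω] [Finite G] {D : Set G}

/-- With eight members and the identity at `a`, a `2`-element centralises the members. -/
theorem two_element_centralises (hP : Pre G Ω D) {Y : Subgroup G} {a : Ω} (hY : Loc D Y a)
    (h2 : Four Y) (hcomm : ∀ d ∈ memIn D Y a, ∀ e ∈ memIn D Y a, Commute d e)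
    (hq : qOf Y a = 8) {g : G} (hg : g ∈ auto Y a) {i : ℕ} (hgi : g ^ 2 ^ i = 1) :
    ∀ d ∈ memIn D Y a, Commute g d := by
  classical
  obtain ⟨b, hb, hba⟩ := hY.exists_ne
  obtain ⟨m, ι, hm, hqm, hbij, hι1, -, -, hsemi⟩ := hY.exists_field hP h2 hcomm hb hba
  obtain rfl : m = 3 := Nat.pow_right_injective (le_refl 2) (show 2 ^ m = 2 ^ 3 by rw [← hqm, hq])
  obtain ⟨σ, c, hc, hgd⟩ := hsemi g hg
  have hit : ∀ n : ℕ, ∃ cn : (GaloisField 2 3), ∀ d ∈ memIn D Y a,
      ι (g ^ n * d * (g ^ n)⁻¹) = cn * σ^[n] (ι d) := by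
    intro n
    induction n with
    | zero => exact ⟨1, fun d _ => by simp⟩
    | succ n ih =>
      obtain ⟨cn, hcn⟩ := ih
      refine ⟨c * σ cn, fun d hd => ?_⟩
      rw [Function.iterate_succ_apply', pow_succ',
        show g * g ^ n * d * (g * g ^ n)⁻¹ = g * (g ^ n * d * (g ^ n)⁻¹) * g⁻¹ by group,
        hgd _ (hY.conj_memIn hP ((auto Y a).pow_mem hg n) hd), hcn d hd, map_mul, mul_assoc]
  have hsurj : ∀ z : (GaloisField 2 3), z ≠ 0 → ∃ d ∈ memIn D Y a, ι d = z := by
    intro z hz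
    obtain ⟨d, hd, rfl⟩ := hbij.2.2 (Set.mem_univ z)
    rcases hd with rfl | hd
    · exact absurd hι1 hz
    · exact ⟨d, hd, rfl⟩
  obtain ⟨cn, hcn⟩ := hit (2 ^ i)
  have hσn : ∀ z : (GaloisField 2 3), σ^[2 ^ i] z = z := by
    have h : ∀ d ∈ memIn D Y a, ι d = cn * σ^[2 ^ i] (ι d) := fun d hd => by
      conv_lhs => rw [show d = g ^ 2 ^ i * d * (g ^ 2 ^ i)⁻¹ by rw [hgi]; simp]
      exact hcn d hd
    obtain ⟨d₁, hd₁, hι⟩ := hsurj 1 one_ne_zero
    have h1 := h d₁ hd₁
    rw [hι, Function.iterate_fixed (map_one σ) (2 ^ i), mul_one] at h1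
    intro z
    rcases eq_or_ne z 0 with rfl | hz
    · exact Function.iterate_fixed (map_zero σ) (2 ^ i)
    · obtain ⟨d, hd, rfl⟩ := hsurj z hz
      exact ((h d hd).trans (by rw [← h1, one_mul])).symm
  -- the field automorphisms form a group of order three
  have hσ : ∀ z : (GaloisField 2 3), σ z = z := by
    let A : (GaloisField 2 3) ≃ₐ[ZMod 2] (GaloisField 2 3) :=
      { σ with
        commutes' := fun z => RingHom.congr_fun
          (Subsingleton.elim (σ.toRingHom.comp (algebraMap (ZMod 2) (GaloisField 2 3))) (algebraMap (ZMod 2) (GaloisField 2 3))) z }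
    have hA2 : A ^ 2 ^ i = 1 := AlgEquiv.ext fun z => by
      rw [AlgEquiv.coe_pow, AlgEquiv.one_apply]
      exact hσn z
    haveI : Fintype (GaloisField 2 3) := Fintype.ofFinite (GaloisField 2 3)
    have hA3 : orderOf A ∣ 3 := (orderOf_dvd_natCard A).trans
      (((IsGalois.card_aut_eq_finrank (ZMod 2) (GaloisField 2 3)).trans
        (GaloisField.finrank 2 (by norm_num))).dvd)
    have h1 : A = 1 := orderOf_eq_one_iff.1 (Nat.Coprime.eq_one_of_dvd
      ((show Nat.Coprime 3 2 by norm_num).pow_right i |>.coprime_dvd_left hA3)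
      (orderOf_dvd_of_pow_eq_one hA2))
    exact fun z => AlgEquiv.congr_fun h1 z
  have hlin : ∀ d ∈ memIn D Y a, ι (g * d * g⁻¹) = c * ι d := fun d hd => by rw [hgd d hd, hσ]
  have hpow : ∀ n : ℕ, ∀ d ∈ memIn D Y a, ι (g ^ n * d * (g ^ n)⁻¹) = c ^ n * ι d := by
    intro n
    induction n with
    | zero => intro d _; simp
    | succ n ih =>
      intro d hd
      rw [pow_succ', show g * g ^ n * d * (g * g ^ n)⁻¹ = g * (g ^ n * d * (g ^ n)⁻¹) * g⁻¹ by group,
        hlin _ (hY.conj_memIn hP ((auto Y a).pow_mem hg n) hd), ih d hd, pow_succ', mul_assoc]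
  have hc1 : c = 1 := by
    obtain ⟨d₁, hd₁, hι⟩ := hsurj 1 one_ne_zero
    have h1 := hpow (2 ^ i) d₁ hd₁
    rw [hgi, inv_one, one_mul, mul_one, hι, mul_one] at h1
    haveI : Fintype (GaloisField 2 3) := Fintype.ofFinite (GaloisField 2 3)
    have h7 : c ^ 7 = 1 := by
      have hK : Fintype.card (GaloisField 2 3) = 8 := by
        rw [← Nat.card_eq_fintype_card, GaloisField.card 2 3 (by norm_num)]; rfl
      have := FiniteField.pow_card_sub_one_eq_one c hc
      rwa [hK] at this
    exact orderOf_eq_one_iff.1 (Nat.Coprime.eq_one_of_dvd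
      ((show Nat.Coprime 7 2 by norm_num).pow_right i |>.coprime_dvd_left (orderOf_dvd_of_pow_eq_one h7))
      (orderOf_dvd_of_pow_eq_one h1.symm))
  intro d hd
  refine mul_inv_eq_iff_eq_mul.1 (hbij.2.1 (Or.inr (hY.conj_memIn hP hg hd)) (Or.inr hd) ?_)
  rw [hlin d hd, hc1, one_mul]

omit [Finite G] in
/-- What centralises `y` normalises the group localised by `y`. -/
theorem mem_normalizer_loc (hP : Pre G Ω D) {g y : G} (hg : Commute g y) :
    g ∈ Subgroup.normalizer (loc D y : Set G) := by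
  have key : ∀ g : G, Commute g y → ∀ z ∈ loc D y, g * z * g⁻¹ ∈ loc D y := by
    intro g hg z hz
    induction hz using Subgroup.closure_induction with
    | mem z hz =>
      exact Subgroup.subset_closure ⟨hP.conj g z hz.1, (hg.mul_left hz.2).mul_left hg.inv_left⟩
    | one => simp
    | mul z z' _ _ h1 h2 =>
      rw [show g * (z * z') * g⁻¹ = g * z * g⁻¹ * (g * z' * g⁻¹) by group]
      exact mul_mem h1 h2
    | inv z _ h1 =>
      rw [show g * z⁻¹ * g⁻¹ = (g * z * g⁻¹)⁻¹ by group]
      exact inv_mem h1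
  refine Subgroup.mem_normalizer_iff.2 fun z => ⟨key _ hg z, fun hz => ?_⟩
  have := key _ hg.inv_left _ hz
  rwa [show g⁻¹ * (g * z * g⁻¹) * g⁻¹⁻¹ = z by group] at this

namespace Setting

variable {x : G} {a : Ω} {q e r : ℕ} (S : Setting D x a q e r)
include S

theorem card_seven : Nat.card (memCent D x a) = 7 := by
  have := S.counts.card_cent
  rw [S.q_eq] at this
  omega

theorem fourAt_of {y : G} (hy : ∀ d ∈ memCent D x a, Commute d y) : FourAt D y a := by
  haveI : Nontrivial (memCent D x a) :=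
    Finite.one_lt_card_iff_nontrivial.1 (by rw [S.card_seven]; norm_num)
  obtain ⟨⟨d, hd⟩, ⟨d', hd'⟩, hne⟩ := exists_pair_ne (memCent D x a)
  exact ⟨d, ⟨hd.1, hy d hd⟩, d', ⟨hd'.1, hy d' hd'⟩, fun h => hne (Subtype.ext h),
    S.counts.commute d hd d' hd'⟩

/-- A member at `a` centralising the `3`-element is the fixed one. -/
theorem eq_of_commute_three {F d₀ : G} (hFx : Commute F x)
    (hd₀ : d₀ ∈ memCent D x a) (hfix : ∀ d ∈ memCent D x a, Commute F d ↔ d = d₀)
    (hN : ∀ s ∈ S.nGrp, Commute s F → Commute s x) {d₁ : G} (hd₁ : d₁ ∈ memAt G D a)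
    (hF : Commute F d₁) : d₁ = d₀ := by
  haveI := S.min.faithful
  by_cases hdx : Commute d₁ x
  · exact (hfix d₁ ⟨hd₁, hdx⟩).1 hF
  exfalso
  have hd1o := S.pre.invol _ hd₁.1
  have hd2 := invol_mul_self hd1o
  have hodd_case : ∀ m : ℕ, Odd m → ∀ w ∈ D, (x * w) ^ m = 1 → False := by
    intro m hm w hw hpow
    obtain ⟨g, -, hg⟩ := exists_conj_of_odd (invol_mul_self (S.pre.invol w hw)) S.x_sq (by
      refine hm.of_dvd_nat (orderOf_dvd_of_pow_eq_one ?_)
      have h : w * x = x * (x * w) * x⁻¹ := by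
        rw [← mul_assoc x x, S.x_sq, one_mul, inv_eq_of_mul_eq_one_right S.x_sq]
      rw [h, conj_pow, hpow, mul_one, mul_inv_cancel])
    exact S.pre.not_bad_of_mem (hg ▸ S.pre.conj g w hw) S.bad
  rcases Nat.even_or_odd (orderOf (x * d₁)) with hev | hodd
  swap
  · exact hodd_case _ hodd d₁ hd₁.1 (pow_orderOf_eq_one _)
  obtain ⟨hz2, hzx, hzd⟩ := central_invol S.bad.invol hd1o hev
  set m := orderOf (x * d₁) / 2 with hmdef
  set z := (x * d₁) ^ m with hzdef
  have hxda : (x * d₁) • a = a := by rw [mul_smul, hd₁.2, S.fix]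
  have hpow_a : ∀ n : ℕ, ((x * d₁) ^ n) • a = a := fun n =>
    (stabilizer G a).pow_mem (show x * d₁ ∈ stabilizer G a from hxda) n
  have hza : z • a = a := hpow_a m
  have hFxd : Commute F (x * d₁) := hFx.mul_right hF
  have hFz : Commute F z := hFxd.pow_right m
  rcases S.pre.mem_or_bad hz2 hza with hzD | hzb
  · obtain rfl : z = d₀ := (hfix z ⟨⟨hzD, hza⟩, hzx⟩).1 hFz
    rcases Nat.even_or_odd m with ⟨k, hk⟩ | hmodd
    · -- `(x * d₁) ^ k` moves `x` by `z` and commutes with `F`
      set y := (x * d₁) ^ k with hydef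
      have hyy : y * y = z := by rw [hydef, ← pow_add, hzdef, hk]
      have hinv : x * y * x⁻¹ = y⁻¹ := by
        rw [hydef, ← conj_pow, ← inv_pow, ← mul_assoc x x, S.x_sq, one_mul, mul_inv_rev,
          inv_eq_of_mul_eq_one_right hd2]
      have hyx : y * x * y⁻¹ = x * z := by
        calc y * x * y⁻¹ = y * x * (x * y * x⁻¹) := by rw [hinv]
          _ = y * (x * x) * y * x⁻¹ := by group
          _ = z * x⁻¹ := by rw [S.x_sq, mul_one, hyy]
          _ = x * z := by rw [inv_eq_of_mul_eq_one_right S.x_sq, hzx.eq]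
      have hyN : y ∈ S.nGrp := by
        refine ⟨hpow_a k, Subgroup.mem_normalizer_iff_map_conj_eq.2 ?_, ?_⟩
        · refine (Subgroup.eq_of_le_of_card_ge ?_
            (Subgroup.card_map_of_injective (MulAut.conj y).injective).le).symm
          intro w hw
          rcases S.mem_eGrp.1 hw with rfl | hw'
          · exact one_mem _
          have himg : memCent D x a ⊆ memCent D (x * z) a := fun d hd =>
            ⟨hd.1, hd.2.mul_right (S.counts.commute d hd z ⟨⟨hzD, hza⟩, hzx⟩)⟩
          have heq : memCent D x a = memCent D (x * z) a := by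
            refine Set.eq_of_subset_of_ncard_le himg (le_of_eq ?_) (Set.toFinite _)
            have h := CountsB.card_memCent_conj S.min y x a
            rw [hyx, hpow_a k] at h
            rw [← Nat.card_coe_set_eq, ← Nat.card_coe_set_eq, h]
          have hw2 : w ∈ memCent D (x * z) a := heq ▸ hw'
          have h := CountsB.conj_memCent S.min (g := y⁻¹) hw2
          rw [inv_smul_eq_iff.2 (hpow_a k).symm, ← hyx,
            show y⁻¹ * (y * x * y⁻¹) * y⁻¹⁻¹ = x by group] at h
          exact ⟨y⁻¹ * w * y⁻¹⁻¹, S.cent_mem h, show y * (y⁻¹ * w * y⁻¹⁻¹) * y⁻¹ = w by group⟩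
        · rw [hyx, ← mul_assoc, S.x_sq, one_mul]
          exact S.cent_mem ⟨⟨hzD, hza⟩, hzx⟩
      have hcomm := hN y hyN (hFxd.pow_right k).symm
      rw [mul_inv_eq_iff_eq_mul.2 hcomm.eq, left_eq_mul] at hyx
      exact invol_ne_one hz2 hyx
    · have hne : d₁ ≠ z := fun h => hdx (h ▸ hzx)
      refine hodd_case m hmodd (d₁ * z) (S.min.act.mul_mem_D hd₁.1 hzD hne hzd.symm) ?_
      rw [← mul_assoc, hzdef, ← pow_succ', ← pow_mul]
      obtain ⟨j, hj⟩ := hmodd
      have h2m : orderOf (x * d₁) = m + m := by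
        obtain ⟨l, hl⟩ := hev
        omega
      refine orderOf_dvd_iff_pow_eq_one.1 ⟨j + 1, ?_⟩
      rw [h2m, hj]; ring
  · -- `z` is bad
    have hzN : z ∈ S.nGrp := S.mem_nGrp_of_commute hza hzx
    have hzB : ∀ d ∈ memCent D x a, Commute z d := S.commute_of_sq hzN hzx fun d _ => by
      rw [invol_mul_self hz2]; exact Commute.one_left d
    set d₁' := x * d₁ * x⁻¹ with hd₁'
    have hd' : d₁' ∈ memAt G D a := by
      have h := S.pre.conj_mem_memAt (g := x) hd₁
      rwa [S.fix] at h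
    have hall : ∀ d ∈ memCent D z a, ∀ d' ∈ memCent D z a, Commute d d' :=
      S.central G Ω D S.min z a hzb hza (S.fourAt_of fun d hd => (hzB d hd).symm)
    have h1z : d₁ ∈ memCent D z a := ⟨hd₁, hzd.symm⟩
    have h2z : d₁' ∈ memCent D z a :=
      ⟨hd', (hzx.symm.mul_left hzd.symm).mul_left hzx.symm.inv_left⟩
    have hne : d₁' ≠ d₁ := fun h => hdx (mul_inv_eq_iff_eq_mul.1 h).symm
    have hc' : Commute d₁' d₁ := hall _ h2z _ h1z
    have hxinv : x⁻¹ = x := inv_eq_of_mul_eq_one_right S.x_sq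
    have hprod : d₁' * d₁ ∈ memCent D x a := by
      refine ⟨⟨S.min.act.mul_mem_D hd'.1 hd₁.1 hne hc', by rw [mul_smul, hd₁.2, hd'.2]⟩, ?_⟩
      show d₁' * d₁ * x = x * (d₁' * d₁)
      calc d₁' * d₁ * x = x * (d₁ * d₁') := by rw [hd₁', hxinv]; group
        _ = x * (d₁' * d₁) := by rw [hc'.eq]
    obtain hz0 : d₁' * d₁ = d₀ := (hfix _ hprod).1
      (((hFx.mul_right hF).mul_right hFx.inv_right).mul_right hF)
    refine S.still d₁ hd₁.2 (fun d hd => hall _ h1z _ ⟨hd.1, (hzB d hd).symm⟩) d₀ hd₀ ?_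
    rw [← hz0, hd₁', inv_eq_of_mul_eq_one_right hd2,
      show x * (x * d₁ * x⁻¹ * d₁) = (x * x) * d₁ * x⁻¹ * d₁ by group, S.x_sq, hxinv, one_mul]

theorem r_eq : r = 1 := by
  classical
  obtain ⟨F, d₀, i, hFa, hFx, hFo, hd₀, hfix, hN⟩ := S.exists_three
  haveI : Fact (Nat.Prime 3) := ⟨Nat.prime_three⟩
  set H := Subgroup.zpowers F
  have hH : IsPGroup 3 H := by
    obtain ⟨j, -, hj⟩ := (Nat.dvd_prime_pow Nat.prime_three).1 (orderOf_dvd_of_pow_eq_one hFo)
    exact IsPGroup.of_card (n := j) (by rw [Nat.card_zpowers, hj])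
  have hHa : H ≤ stabilizer G a := Subgroup.zpowers_le.2 hFa
  letI : MulAction H (memAt G D a) :=
    { smul := fun h d => ⟨(h : G) * d * (h : G)⁻¹, by
        have h' := S.pre.conj_mem_memAt (g := (h : G)) d.2
        rwa [show (h : G) • a = a from hHa h.2] at h'⟩
      one_smul := fun d => Subtype.ext (show (1 : G) * d * (1 : G)⁻¹ = d by group)
      mul_smul := fun h h' d => Subtype.ext (show ((h : G) * h') * d * ((h : G) * h')⁻¹ =
        (h : G) * ((h' : G) * d * (h' : G)⁻¹) * (h : G)⁻¹ by group) }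
  have hsing : fixedPoints H (memAt G D a) = {⟨d₀, hd₀.1⟩} := by
    refine Set.eq_singleton_iff_unique_mem.2 ⟨fun h => Subtype.ext ?_, fun d hd => Subtype.ext ?_⟩
    · obtain ⟨n, hn⟩ := Subgroup.mem_zpowers_iff.1 h.2
      show (h : G) * d₀ * (h : G)⁻¹ = d₀
      rw [← hn]
      exact mul_inv_eq_iff_eq_mul.2 (((hfix d₀ hd₀).2 rfl).zpow_left n).eq
    · exact S.eq_of_commute_three hFx hd₀ hfix hN d.2
        (mul_inv_eq_iff_eq_mul.1 (congrArg Subtype.val (hd ⟨F, Subgroup.mem_zpowers F⟩)))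
  have hmod := hH.card_modEq_card_fixedPoints (memAt G D a)
  rw [hsing, Nat.card_eq_fintype_card (α := ({⟨d₀, hd₀.1⟩} : Set (memAt G D a))),
    Set.card_singleton, S.counts.card_mem, S.q_eq] at hmod
  have h3 : r % 3 = 1 := by rw [Nat.ModEq] at hmod; omega
  have h8 : r % 8 = 1 := by have := S.counts.mod_one; rwa [S.q_eq] at this
  have hdvd : r ∣ 8 ^ e * ((8 ^ e + 1) * 7) := by
    have h := S.counts.count
    rw [S.q_eq, mul_add] at h
    exact (Nat.dvd_add_right (dvd_mul_left r _)).1 (Dvd.intro_left _ h)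
  have hcop : r.Coprime (8 ^ e) := by
    refine Nat.Coprime.pow_right e ?_
    rw [show 8 = 2 ^ 3 by rfl]
    exact Nat.Coprime.pow_right 3 (Nat.coprime_two_right.2 (Nat.odd_iff.2 (by omega)))
  have hd := hcop.dvd_of_dvd_mul_left hdvd
  obtain ⟨k, rfl⟩ : ∃ k, r = 8 * k + 1 := ⟨r / 8, by omega⟩
  rcases S.counts.type with rfl | rfl | rfl
  · have := Nat.le_of_dvd (by norm_num) hd
    have hk : k ≤ 7 := by omega
    interval_cases k <;> first | rfl | omega
  · have := Nat.le_of_dvd (by norm_num) hd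
    have hk : k ≤ 56 := by omega
    interval_cases k <;> first | rfl | omega
  · have h133 : 8 * k + 1 ∣ 133 := by
      have hc : (8 * k + 1).Coprime 27 := by
        rw [show 27 = 3 ^ 3 by rfl]
        exact Nat.Coprime.pow_right 3
          ((Nat.prime_three.coprime_iff_not_dvd.2 (by omega)).symm)
      exact hc.dvd_of_dvd_mul_left (by norm_num at hd ⊢; exact hd)
    have := Nat.le_of_dvd (by norm_num) h133
    have hk : k ≤ 16 := by omega
    interval_cases k <;> first | rfl | omega

theorem memAt_eq : memAt G D a = memCent D x a := by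
  refine (Set.eq_of_subset_of_ncard_le (fun d hd => hd.1) (le_of_eq ?_) (Set.toFinite _)).symm
  rw [← Nat.card_coe_set_eq, ← Nat.card_coe_set_eq, S.counts.card_mem, S.card_seven, S.q_eq,
    S.r_eq]

/-- A bad involution fixing `a` has the same members at `a`. -/
theorem memCent_eq {y : G} (hy : Bad G Ω y) (hya : y • a = a) : memCent D y a = memCent D x a := by
  refine Set.eq_of_subset_of_ncard_le (fun d hd => S.memAt_eq ▸ hd.1) ?_ (Set.toFinite _)
  rw [← Nat.card_coe_set_eq, ← Nat.card_coe_set_eq]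
  exact S.counts.minimal y a hy hya

/-- An element of square one fixing `a` centralises the members. -/
theorem invol_commute {y : G} (hy : y * y = 1) (hya : y • a = a) :
    ∀ d ∈ memCent D x a, Commute y d := by
  haveI := S.min.faithful
  intro d hd
  by_cases h1 : y = 1
  · rw [h1]; exact Commute.one_left d
  have hy2 : orderOf y = 2 := invol_iff.2 ⟨hy, h1⟩
  rcases S.pre.mem_or_bad hy2 hya with hD | hb
  · have hmem : y ∈ memCent D x a := by rw [← S.memAt_eq]; exact ⟨hD, hya⟩
    exact S.counts.commute y hmem d hd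
  · have hd' : d ∈ memCent D y a := by rw [S.memCent_eq hb hya]; exact hd
    exact hd'.2.symm

/-- A `2`-element fixing `a`, normalising a group with the members of `x` at `a`, centralises
them. -/
theorem centralises_of_auto {Y : Subgroup G} (hY : Loc D Y a)
    (hB : memIn D Y a = memCent D x a) {g : G} (hg : g ∈ auto Y a) {i : ℕ} (hgi : g ^ 2 ^ i = 1) :
    ∀ d ∈ memCent D x a, Commute g d := by
  have hcomm : ∀ d ∈ memIn D Y a, ∀ d' ∈ memIn D Y a, Commute d d' := by
    rw [hB]; exact S.counts.commute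
  obtain ⟨d, hd, d', hd', hne, hdd⟩ := S.fourAt_of (y := 1) fun _ _ => Commute.one_right _
  have hmem : ∀ f ∈ memCent D (1 : G) a, f ∈ Y := fun f hf => by
    have : f ∈ memIn D Y a := by rw [hB, ← S.memAt_eq]; exact hf.1
    exact this.2
  have h2 : Four Y := ⟨⟨d, hmem d hd⟩, ⟨d', hmem d' hd'⟩,
    fun h => invol_ne_one (S.pre.invol _ hd.1.1) (congrArg Subtype.val h),
    fun h => invol_ne_one (S.pre.invol _ hd'.1.1) (congrArg Subtype.val h),
    fun h => hne (congrArg Subtype.val h), Subtype.ext (invol_mul_self (S.pre.invol _ hd.1.1)),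
    Subtype.ext (invol_mul_self (S.pre.invol _ hd'.1.1)), Subtype.ext hdd.eq⟩
  have hq : qOf Y a = 8 := by
    rw [← hY.card_memIn S.pre hcomm, hB, S.card_seven]
  intro f hf
  exact two_element_centralises S.pre hY h2 hcomm hq hg hgi f (by rw [hB]; exact hf)

/-- A `2`-element centralising a bad involution at `a` centralises the members. -/
theorem centralises_of_bad {y g : G} (hy : Bad G Ω y) (hya : y • a = a) (hga : g • a = a)
    (hgy : Commute g y) {i : ℕ} (hgi : g ^ 2 ^ i = 1) : ∀ d ∈ memCent D x a, Commute g d :=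
  S.centralises_of_auto (loc_bad S.min.act hy hya) (by rw [memIn_loc, S.memCent_eq hy hya])
    ⟨mem_normalizer_loc S.pre hgy, hga⟩ hgi

end Setting

end Cfsg.Agent.Lib.Crit5.Pure
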