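import Cfsg.Agent.Lib.Crit5.Shape.Torus
import Cfsg.Agent.Lib.Crit5.Pure.Linear

/-!
# Section P of the single fixed point criterion: the linear group of the bad involution

If the elements fixing `a` and centralising the members of `x` at `a` centralise `x`, then the
elements fixing `a`, normalising these members and moving `x` by one of them induce a `Twist`.
-/

set_option autoImplicit false
set_option linter.style.haveILetI false
set_option linter.unusedSectionVars false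

namespace Cfsg.Agent.Lib.Crit5.Pure

open MulAction Cfsg.Agent.Lib.Involutions.Basic
open Cfsg.Agent.Lib.Crit8 (Pre Action Bad memAt loc)
open Cfsg.Agent.Lib.Crit5.Shape

universe u

variable {G Ω : Type u} [Group G] [MulAction G Ω] [Finite G]

/-- What is to be refuted: whatever fixes `a`, centralises the members of `x` at `a` and moves `x`
by one of them centralises `x`. -/
structure Setting (D : Set G) (x : G) (a : Ω) (q e r : ℕ) : Prop where
  min : Min G Ω D
  central : PropCentral.{u}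
  bad : Bad G Ω x
  counts : Counts D x a q e r
  still : ∀ s : G, s • a = a → (∀ d ∈ memCent D x a, Commute s d) →
    ∀ d ∈ memCent D x a, s * x * s⁻¹ ≠ x * d

namespace Setting

variable {D : Set G} {x : G} {a : Ω} {q e r : ℕ} (S : Setting D x a q e r)
include S

theorem pre : Pre G Ω D := S.min.act.toPre

theorem fix : x • a = a := S.counts.fixes

theorem loc' : Loc D (loc D x) a := loc_bad S.min.act S.bad S.fix

theorem x_sq : x * x = 1 := invol_mul_self S.bad.invol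

theorem hcomm : ∀ d ∈ memIn D (loc D x) a, ∀ d' ∈ memIn D (loc D x) a, Commute d d' := by
  rw [memIn_loc]; exact S.counts.commute

theorem four : Four (loc D x) := by
  have h4 := S.counts.card_cent
  have := S.counts.four_le
  obtain ⟨d, d', hne⟩ : ∃ d d' : memCent D x a, d ≠ d' := by
    haveI : Nontrivial (memCent D x a) := Finite.one_lt_card_iff_nontrivial.1 (by omega)
    exact exists_pair_ne _
  have hY : ∀ f : memCent D x a, (f : G) ∈ loc D x :=
    fun f => Subgroup.subset_closure ⟨f.2.1.1, f.2.2⟩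
  refine ⟨⟨d, hY d⟩, ⟨d', hY d'⟩, ?_, ?_, ?_, ?_, ?_, ?_⟩
  · exact fun h => invol_ne_one (S.pre.invol _ d.2.1.1) (congrArg Subtype.val h)
  · exact fun h => invol_ne_one (S.pre.invol _ d'.2.1.1) (congrArg Subtype.val h)
  · exact fun h => hne (Subtype.ext (congrArg Subtype.val h :))
  · exact Subtype.ext (invol_mul_self (S.pre.invol _ d.2.1.1))
  · exact Subtype.ext (invol_mul_self (S.pre.invol _ d'.2.1.1))
  · exact Subtype.ext (S.counts.commute d d.2 d' d'.2).eq

theorem qOf_eq : qOf (loc D x) a = q := by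
  have h := S.loc'.card_memIn S.pre S.hcomm
  rw [memIn_loc, S.counts.card_cent] at h
  exact h.symm

/-- The members of `x` at `a` with the identity. -/
def eGrp : Subgroup G := Loc.eSub S.pre S.loc' S.hcomm

theorem mem_eGrp {w : G} : w ∈ S.eGrp ↔ w = 1 ∨ w ∈ memCent D x a := by
  show w = 1 ∨ w ∈ memIn D (loc D x) a ↔ _
  rw [memIn_loc]

theorem cent_mem {d : G} (hd : d ∈ memCent D x a) : d ∈ S.eGrp := S.mem_eGrp.2 (Or.inr hd)

theorem cent_of_ne {w : G} (hw : w ∈ S.eGrp) (h1 : w ≠ 1) : w ∈ memCent D x a :=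
  (S.mem_eGrp.1 hw).resolve_left h1

theorem comm_x {w : G} (hw : w ∈ S.eGrp) : Commute w x := by
  rcases S.mem_eGrp.1 hw with rfl | hw
  exacts [Commute.one_left x, hw.2]

theorem smul_a {w : G} (hw : w ∈ S.eGrp) : w • a = a := by
  rcases S.mem_eGrp.1 hw with rfl | hw
  exacts [one_smul G a, hw.1.2]

theorem sq_one {w : G} (hw : w ∈ S.eGrp) : w * w = 1 := by
  rcases S.mem_eGrp.1 hw with rfl | hw
  exacts [one_mul 1, invol_mul_self (S.pre.invol _ hw.1.1)]

theorem comm_eGrp {w w' : G} (hw : w ∈ S.eGrp) (hw' : w' ∈ S.eGrp) : Commute w w' := by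
  rcases S.mem_eGrp.1 hw with rfl | hd
  · exact Commute.one_left w'
  rcases S.mem_eGrp.1 hw' with rfl | hd'
  · exact Commute.one_right w
  exact S.counts.commute w hd w' hd'

theorem card_eGrp : Nat.card S.eGrp = q := by
  have hset : (S.eGrp : Set G) = insert 1 (memCent D x a) := Set.ext fun w => S.mem_eGrp
  rw [← SetLike.coe_sort_coe, Nat.card_coe_set_eq, hset,
    Set.ncard_insert_of_notMem (fun h => invol_ne_one (S.pre.invol 1 h.1.1) rfl) (Set.toFinite _),
    ← Nat.card_coe_set_eq, S.counts.card_cent]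

/-- The elements fixing `a`, normalising `eGrp` and moving `x` into `x * eGrp`. -/
def nGrp : Subgroup G where
  carrier := {s | s ∈ stabilizer G a ∧ s ∈ Subgroup.normalizer (S.eGrp : Set G) ∧
    x * (s * x * s⁻¹) ∈ S.eGrp}
  one_mem' := ⟨one_mem _, one_mem _, by
    rw [one_mul, inv_one, mul_one, S.x_sq]; exact one_mem _⟩
  mul_mem' := fun {s t} hs ht => ⟨mul_mem hs.1 ht.1, mul_mem hs.2.1 ht.2.1, by
    rw [show x * (s * t * x * (s * t)⁻¹) = x * (s * x⁻¹ * s⁻¹)⁻¹ *
      (s * (x⁻¹ * (t * x * t⁻¹)) * s⁻¹) by group, inv_eq_of_mul_eq_one_right S.x_sq]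
    refine mul_mem ?_ ((Subgroup.mem_normalizer_iff.1 hs.2.1 _).1 ht.2.2)
    rw [show (s * x * s⁻¹)⁻¹ = s * x⁻¹ * s⁻¹ by group, inv_eq_of_mul_eq_one_right S.x_sq]
    exact hs.2.2⟩
  inv_mem' := fun {s} hs => ⟨inv_mem hs.1, inv_mem hs.2.1, by
    have h := (Subgroup.mem_normalizer_iff.1 (inv_mem hs.2.1) _).1 (inv_mem hs.2.2)
    rw [show s⁻¹ * (x * (s * x * s⁻¹))⁻¹ * s⁻¹⁻¹ = x⁻¹ * (s⁻¹ * x⁻¹ * s⁻¹⁻¹) by group,
      inv_eq_of_mul_eq_one_right S.x_sq] at h
    exact h⟩

theorem nGrp_fix (s : S.nGrp) : (s : G) • a = a := s.2.1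

/-- Conjugation on `eGrp`. -/
def rho : S.nGrp →* MulAut S.eGrp where
  toFun s :=
    { toFun := fun w => ⟨(s : G) * w * (s : G)⁻¹, (Subgroup.mem_normalizer_iff.1 s.2.2.1 _).1 w.2⟩
      invFun := fun w => ⟨(s : G)⁻¹ * w * s,
        (Subgroup.mem_normalizer_iff''.1 s.2.2.1 _).1 w.2⟩
      left_inv := fun w => Subtype.ext (show (s : G)⁻¹ * ((s : G) * w * (s : G)⁻¹) * s = w by group)
      right_inv := fun w => Subtype.ext (show (s : G) * ((s : G)⁻¹ * w * s) * (s : G)⁻¹ = w by group)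
      map_mul' := fun w w' => Subtype.ext (show (s : G) * ((w : G) * w') * (s : G)⁻¹ =
        (s : G) * w * (s : G)⁻¹ * ((s : G) * w' * (s : G)⁻¹) by group) }
  map_one' := MulEquiv.ext fun w => Subtype.ext (show (1 : G) * w * (1 : G)⁻¹ = w by group)
  map_mul' s t := MulEquiv.ext fun w => Subtype.ext (show ((s : G) * t) * w * ((s : G) * t)⁻¹ =
    (s : G) * ((t : G) * w * (t : G)⁻¹) * (s : G)⁻¹ by group)

theorem rho_apply (s : S.nGrp) (w : S.eGrp) :
    ((S.rho s w : S.eGrp) : G) = (s : G) * w * (s : G)⁻¹ := rfl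

theorem rho_eq_one_iff (s : S.nGrp) :
    S.rho s = 1 ↔ ∀ d ∈ memCent D x a, Commute (s : G) d := by
  constructor
  · intro h d hd
    exact mul_inv_eq_iff_eq_mul.1
      (congrArg Subtype.val (DFunLike.congr_fun h ⟨d, S.cent_mem hd⟩) :)
  · intro h
    refine MulEquiv.ext fun w => Subtype.ext ?_
    show (s : G) * w * (s : G)⁻¹ = w
    rcases S.mem_eGrp.1 w.2 with h1 | hd
    · rw [h1]; group
    · exact mul_inv_eq_iff_eq_mul.2 (h w hd).eq

/-- What fixes `a` and centralises `x` is in `nGrp`. -/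
theorem mem_nGrp_of_commute {s : G} (ha : s • a = a) (hs : Commute s x) : s ∈ S.nGrp := by
  have hconj : ∀ {g : G}, g • a = a → Commute g x → ∀ w ∈ S.eGrp, g * w * g⁻¹ ∈ S.eGrp := by
    intro g hga hg w hw
    rcases S.mem_eGrp.1 hw with rfl | hd
    · rw [mul_one, mul_inv_cancel]; exact one_mem _
    · have h := S.pre.conj_mem_memAt (g := g) hd.1
      rw [hga] at h
      exact S.cent_mem ⟨h, (hg.mul_left hd.2).mul_left hg.inv_left⟩
  refine ⟨ha, Subgroup.mem_normalizer_iff.2 fun w => ⟨hconj ha hs w, fun hw => ?_⟩, ?_⟩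
  · have h := hconj (inv_smul_eq_iff.2 ha.symm) hs.inv_left _ hw
    rwa [show s⁻¹ * (s * w * s⁻¹) * s⁻¹⁻¹ = w by group] at h
  · rw [mul_inv_eq_iff_eq_mul.2 hs.eq, S.x_sq]
    exact one_mem _

/-- How `x` is moved. -/
def vOf (s : S.nGrp) : S.eGrp := ⟨x * ((s : G) * x * (s : G)⁻¹), s.2.2.2⟩

theorem vOf_eq_one_iff (s : S.nGrp) : S.vOf s = 1 ↔ Commute (s : G) x := by
  rw [Subtype.ext_iff]
  show x * ((s : G) * x * (s : G)⁻¹) = 1 ↔ _
  rw [mul_eq_one_iff_inv_eq, inv_eq_of_mul_eq_one_right S.x_sq, eq_comm, mul_inv_eq_iff_eq_mul]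
  rfl

theorem vOf_mul (s t : S.nGrp) : S.vOf (s * t) = S.vOf s * S.rho s (S.vOf t) := Subtype.ext <| by
  show x * ((s : G) * t * x * ((s : G) * t)⁻¹) =
    x * ((s : G) * x * (s : G)⁻¹) * ((s : G) * (x * ((t : G) * x * (t : G)⁻¹)) * (s : G)⁻¹)
  rw [show x * ((s : G) * x * (s : G)⁻¹) * ((s : G) * (x * ((t : G) * x * (t : G)⁻¹)) * (s : G)⁻¹) =
    x * ((s : G) * (x * x) * ((t : G) * x * (t : G)⁻¹) * (s : G)⁻¹) by group, S.x_sq]
  group

theorem vOf_eq_of_rho {s t : S.nGrp} (h : S.rho s = S.rho t) : S.vOf s = S.vOf t := by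
  have h1 : S.rho (t⁻¹ * s) = 1 := by rw [map_mul, map_inv, h, inv_mul_cancel]
  have h2 : S.vOf (t⁻¹ * s) = 1 := by
    by_contra hne
    refine S.still _ (S.nGrp_fix _) ((S.rho_eq_one_iff _).1 h1) _
      (S.cent_of_ne (S.vOf (t⁻¹ * s)).2 fun e => hne (Subtype.ext e)) ?_
    show _ = x * (x * (((t⁻¹ * s : S.nGrp) : G) * x * ((t⁻¹ * s : S.nGrp) : G)⁻¹))
    rw [← mul_assoc x x, S.x_sq, one_mul]
  have h3 := S.vOf_mul t (t⁻¹ * s)
  rwa [mul_inv_cancel_left, h2, map_one, mul_one] at h3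

/-- The linear group. -/
abbrev Lam : Subgroup (MulAut S.eGrp) := S.rho.range

/-- The cocycle. -/
noncomputable def vL (g : S.Lam) : S.eGrp := S.vOf g.2.choose

theorem vL_eq (s : S.nGrp) : S.vL (S.rho.rangeRestrict s) = S.vOf s :=
  S.vOf_eq_of_rho (S.rho.rangeRestrict s).2.choose_spec

theorem yFix_le : loc D x ⊓ stabilizer G a ≤ S.nGrp := fun _ hy =>
  S.mem_nGrp_of_commute hy.2 (commute_of_mem_loc hy.1)

/-- The image of the stabiliser of `a` in the local group. -/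
noncomputable def cGrp : Subgroup S.Lam :=
  ((loc D x ⊓ stabilizer G a).subgroupOf S.nGrp).map S.rho.rangeRestrict

/-- `eGrp` as a commutative group. -/
@[reducible] def eComm : CommGroup S.eGrp :=
  { (inferInstance : Group S.eGrp) with
    mul_comm := fun w w' => Subtype.ext (S.comm_eGrp w.2 w'.2).eq }

/-- An element of the local group fixing `a` acts as a power of the torus. -/
theorem exists_torus' : ∃ c : G, c ∈ loc D x ⊓ stabilizer G a ∧
    (∀ d ∈ memCent D x a, ∀ d' ∈ memCent D x a, ∃ n : ℕ, c ^ n * d * (c ^ n)⁻¹ = d') ∧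
    ∀ y ∈ loc D x ⊓ stabilizer G a, ∃ n : ℕ, ∀ d ∈ memCent D x a,
      y * d * y⁻¹ = c ^ n * d * (c ^ n)⁻¹ := by
  obtain ⟨b, hb, hba⟩ := S.loc'.exists_ne
  obtain ⟨c, hc, hca, -, htr, -, hact⟩ := S.loc'.exists_torus S.pre S.four S.hcomm hb hba
  refine ⟨c, ⟨hc, hca⟩, fun d hd d' hd' => htr d (by rwa [memIn_loc]) d' (by rwa [memIn_loc]),
    fun y hy => ?_⟩
  have hyb : y • b ∈ orbit (loc D x) a := auto_smul_mem (Loc.mem_auto hy.1 hy.2) hb
  have hyba : y • b ≠ a := fun h => hba (smul_left_cancel y (h.trans (hy.2 : y • a = a).symm))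
  obtain ⟨τ, hτ, hτa, hτb, hτc⟩ := S.loc'.exists_translation S.pre S.four S.hcomm hb hyb hba hyba
  obtain ⟨n, hn⟩ := hact (τ⁻¹ * y) (mul_mem (inv_mem hτ) hy.1)
    (by rw [mul_smul, (hy.2 : y • a = a), inv_smul_eq_iff, hτa])
    (by rw [mul_smul, inv_smul_eq_iff, hτb])
  refine ⟨n, fun d hd => ?_⟩
  have hd' : d ∈ memIn D (loc D x) a := by rwa [memIn_loc]
  rw [← hn d hd']
  have hm := S.loc'.conj_memIn S.pre (Loc.mem_auto hy.1 hy.2) hd'
  have h := hτc _ hm
  calc y * d * y⁻¹ = τ⁻¹ * (τ * (y * d * y⁻¹)) := by group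
    _ = τ⁻¹ * ((y * d * y⁻¹) * τ) := by rw [h.eq]
    _ = τ⁻¹ * y * d * (τ⁻¹ * y)⁻¹ := by group

theorem isTwist : @Twist S.Lam S.eGrp _ S.eComm
    (MulDistribMulAction.compHom S.eGrp S.Lam.subtype) S.vL S.cGrp := by
  letI := S.eComm
  letI : MulDistribMulAction S.Lam S.eGrp := MulDistribMulAction.compHom S.eGrp S.Lam.subtype
  obtain ⟨c, hc, htr, hact⟩ := S.exists_torus'
  have hsurj := S.rho.rangeRestrict_surjective
  -- the image of the local group
  have hC : ∀ g, g ∈ S.cGrp → ∃ n : ℕ,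
      g = S.rho.rangeRestrict (⟨c, S.yFix_le hc⟩ ^ n) := by
    rintro _ ⟨y, hy, rfl⟩
    obtain ⟨n, hn⟩ := hact y hy
    refine ⟨n, Subtype.ext (MulEquiv.ext fun w => Subtype.ext ?_)⟩
    show (y : G) * w * (y : G)⁻¹ = ((⟨c, S.yFix_le hc⟩ ^ n : S.nGrp) : G) * w *
      ((⟨c, S.yFix_le hc⟩ ^ n : S.nGrp) : G)⁻¹
    rw [Subgroup.coe_pow]
    rcases S.mem_eGrp.1 w.2 with h1 | hd
    · rw [h1]; group
    · exact hn w hd
  refine
    { eq_one := fun g hg => Subtype.ext (MulEquiv.ext hg)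
      mul_self := fun w => Subtype.ext (S.sq_one w.2)
      four := S.counts.four_le.trans S.card_eGrp.ge
      cocycle := fun g h => ?_
      surj := fun w => ?_
      comm := fun g hg h hh => ?_
      fixed := fun g hg => ?_
      normal := fun h hh g hg => ?_
      trans := fun w w' hw hw' => ?_ }
  · obtain ⟨s, rfl⟩ := hsurj g
    obtain ⟨t, rfl⟩ := hsurj h
    rw [← map_mul, S.vL_eq, S.vL_eq, S.vL_eq, S.vOf_mul]
    rfl
  · rcases S.mem_eGrp.1 w.2 with h1 | hd
    · refine ⟨S.rho.rangeRestrict 1, ?_⟩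
      rw [S.vL_eq, (S.vOf_eq_one_iff 1).2 (Commute.one_left x)]
      exact Subtype.ext h1.symm
    · obtain ⟨s, hsa, hsB, hsx⟩ := S.counts.translate w hd
      have hmem : s ∈ S.nGrp := by
        refine ⟨hsa, ?_, ?_⟩
        · refine Subgroup.mem_normalizer_iff_map_conj_eq.2 (Subgroup.eq_of_le_of_card_ge ?_
            (le_of_eq (Subgroup.card_map_of_injective (MulAut.conj s).injective).symm))
          rintro _ ⟨f, hf, rfl⟩
          rcases S.mem_eGrp.1 hf with rfl | hf'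
          · simp
          · exact S.cent_mem (hsB f hf')
        · rw [hsx, ← mul_assoc, S.x_sq, one_mul]
          exact w.2
      refine ⟨S.rho.rangeRestrict ⟨s, hmem⟩, ?_⟩
      rw [S.vL_eq]
      refine Subtype.ext ?_
      show x * (s * x * s⁻¹) = _
      rw [hsx, ← mul_assoc, S.x_sq, one_mul]
  · obtain ⟨m, rfl⟩ := hC g hg
    obtain ⟨n, rfl⟩ := hC h hh
    rw [← map_mul, ← map_mul, ← pow_add, add_comm, pow_add]
  · obtain ⟨y, hy, rfl⟩ := hg
    rw [S.vL_eq, S.vOf_eq_one_iff]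
    exact commute_of_mem_loc hy.1
  · obtain ⟨s, rfl⟩ := hsurj h
    rw [S.vL_eq, S.vOf_eq_one_iff] at hh
    obtain ⟨y, hy, rfl⟩ := hg
    rw [← map_inv, ← map_mul, ← map_mul]
    refine ⟨_, ⟨?_, ?_⟩, rfl⟩
    · have hN : (s : G) ∈ Subgroup.normalizer (loc D x : Set G) := by
        have key : ∀ g : G, Commute g x → ∀ z ∈ loc D x, g * z * g⁻¹ ∈ loc D x := by
          intro g hg z hz
          induction hz using Subgroup.closure_induction with
          | mem z hz =>
            exact Subgroup.subset_closure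
              ⟨S.pre.conj g z hz.1, (hg.mul_left hz.2).mul_left hg.inv_left⟩
          | one => simp
          | mul z z' _ _ h1 h2 =>
            rw [show g * (z * z') * g⁻¹ = g * z * g⁻¹ * (g * z' * g⁻¹) by group]
            exact mul_mem h1 h2
          | inv z _ h1 =>
            rw [show g * z⁻¹ * g⁻¹ = (g * z * g⁻¹)⁻¹ by group]
            exact inv_mem h1
        refine Subgroup.mem_normalizer_iff.2 fun z => ⟨key _ hh z, fun hz => ?_⟩
        have := key _ hh.inv_left _ hz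
        rwa [show (s : G)⁻¹ * ((s : G) * z * (s : G)⁻¹) * (s : G)⁻¹⁻¹ = z by group] at this
      exact (Subgroup.mem_normalizer_iff.1 hN _).1 hy.1
    · exact (stabilizer G a).mul_mem ((stabilizer G a).mul_mem (S.nGrp_fix s) hy.2)
        ((stabilizer G a).inv_mem (S.nGrp_fix s))
  · obtain ⟨n, hn⟩ := htr w (S.cent_of_ne w.2 fun h => hw (Subtype.ext h)) w'
      (S.cent_of_ne w'.2 fun h => hw' (Subtype.ext h))
    refine ⟨S.rho.rangeRestrict (⟨c, S.yFix_le hc⟩ ^ n), ⟨_, ?_, rfl⟩, ?_⟩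
    · exact Subgroup.pow_mem _ (show (⟨c, S.yFix_le hc⟩ : S.nGrp) ∈
        (loc D x ⊓ stabilizer G a).subgroupOf S.nGrp from hc) n
    · refine Subtype.ext ?_
      show ((⟨c, S.yFix_le hc⟩ ^ n : S.nGrp) : G) * (w : G) * ((⟨c, S.yFix_le hc⟩ ^ n : S.nGrp) : G)⁻¹ = w'
      rw [Subgroup.coe_pow]
      exact hn

end Setting

end Cfsg.Agent.Lib.Crit5.Pure
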