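import Cfsg.Agent.Lib.Crit5.Shape.TwoGroup
import Cfsg.Agent.Lib.Crit5.Pure.Members

/-!
# Section P of the single fixed point criterion: the kernel of the linear group

Frattini's argument gives a moving `2`-element normalising a given Sylow subgroup of the kernel.
For `e ≤ 2` a Sylow `2`-subgroup of the kernel is the product of a translation group and of an
elementary abelian group `R` trivial on the fixed points of `x`, and `R` meets none of its
conjugates by the moving element.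
-/

set_option autoImplicit false
set_option linter.style.haveILetI false
set_option linter.unusedSectionVars false

namespace Cfsg.Agent.Lib.Crit5.Pure.Setting

open MulAction Cfsg.Agent.Lib.Involutions.Basic
open Cfsg.Agent.Lib.Crit8 (Pre Action Bad memAt loc)
open Cfsg.Agent.Lib.Crit5.Shape

universe u

variable {G Ω : Type u} [Group G] [MulAction G Ω] [Finite G] {D : Set G}
variable {x : G} {a : Ω} {q e r : ℕ} (S : Setting D x a q e r)
include S

/-- The embedding of the kernel. -/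
def kerHom : S.rho.ker →* G := S.nGrp.subtype.comp S.rho.ker.subtype

theorem kerHom_injective : Function.Injective S.kerHom := fun _ _ h =>
  Subtype.ext (Subtype.ext h)

/-- The elements fixing `a` and centralising `x` and its members at `a`. -/
def tGrp : Subgroup G := S.kerHom.range

theorem mem_tGrp {s : G} :
    s ∈ S.tGrp ↔ s • a = a ∧ Commute s x ∧ ∀ d ∈ memCent D x a, Commute s d := by
  constructor
  · rintro ⟨n, rfl⟩
    refine ⟨S.nGrp_fix n.1, (S.vOf_eq_one_iff n.1).1 ?_, (S.rho_eq_one_iff n.1).1 n.2⟩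
    have h : S.vOf n.1 = S.vOf 1 := S.vOf_eq_of_rho
      ((show S.rho n.1 = 1 from n.2).trans (map_one _).symm)
    rw [h, S.vOf_eq_one_iff]
    exact Commute.one_left x
  · rintro ⟨ha, hx, hB⟩
    exact ⟨⟨⟨s, S.mem_nGrp_of_commute ha hx⟩, (S.rho_eq_one_iff _).2 hB⟩, rfl⟩

theorem comm_x_of_tGrp {s : G} (hs : s ∈ S.tGrp) : Commute s x := (S.mem_tGrp.1 hs).2.1

theorem comm_E_of_tGrp {s w : G} (hs : s ∈ S.tGrp) (hw : w ∈ S.eGrp) : Commute s w := by
  rcases S.mem_eGrp.1 hw with rfl | hd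
  exacts [Commute.one_right s, (S.mem_tGrp.1 hs).2.2 w hd]

theorem sq_mem_tGrp {t : G} (ht : t ∈ S.nGrp)
    (hsq : ∀ d ∈ memCent D x a, Commute (t * t) d) : t * t ∈ S.tGrp :=
  ⟨⟨⟨t, ht⟩ * ⟨t, ht⟩, (S.rho_eq_one_iff _).2 hsq⟩, rfl⟩

variable {p : ℕ} [Fact p.Prime]

/-- A Sylow subgroup of the kernel, in `G`. -/
def pG (P : Sylow p S.rho.ker) : Subgroup G := (P : Subgroup S.rho.ker).map S.kerHom

theorem pG_le (P : Sylow p S.rho.ker) : S.pG P ≤ S.tGrp := Subgroup.map_le_range _ _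

theorem pG_isPGroup (P : Sylow p S.rho.ker) : IsPGroup p (S.pG P) := P.isPGroup'.map _

theorem exists_sylow {H : Subgroup G} (hH : IsPGroup p H) (hle : H ≤ S.tGrp) :
    ∃ P : Sylow p S.rho.ker, H ≤ S.pG P := by
  obtain ⟨P, hP⟩ := (hH.comap_of_injective S.kerHom S.kerHom_injective).exists_le_sylow
  refine ⟨P, fun g hg => ?_⟩
  obtain ⟨n, rfl⟩ := hle hg
  exact ⟨n, hP hg, rfl⟩

theorem mem_pG_of_normalising (P : Sylow p S.rho.ker) {g : G} (hg : g ∈ S.tGrp) {i : ℕ}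
    (hgi : g ^ p ^ i = 1) (hN : g ∈ Subgroup.normalizer (S.pG P : Set G)) : g ∈ S.pG P := by
  have hz : IsPGroup p (Subgroup.zpowers g) := by
    obtain ⟨j, -, hj⟩ := (Nat.dvd_prime_pow Fact.out).1 (orderOf_dvd_of_pow_eq_one hgi)
    exact IsPGroup.of_card (n := j) (by rw [Nat.card_zpowers, hj])
  have hsup : IsPGroup p (Subgroup.zpowers g ⊔ S.pG P : Subgroup G) :=
    hz.to_sup_of_normal_right' (S.pG_isPGroup P) (Subgroup.zpowers_le.2 hN)
  have heq := P.is_maximal' (hsup.comap_of_injective S.kerHom S.kerHom_injective) fun n hn =>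
    Subgroup.mem_sup_right (Subgroup.mem_map_of_mem _ hn)
  obtain ⟨n, rfl⟩ := hg
  exact ⟨n, heq ▸ Subgroup.mem_sup_left (Subgroup.mem_zpowers _), rfl⟩

/-- Frattini: a moving `2`-element normalises the Sylow subgroup. -/
theorem exists_moving_normalising (P : Sylow p S.rho.ker) :
    ∃ (t : G) (i : ℕ), t ∈ S.nGrp ∧ t ^ 2 ^ i = 1 ∧
      (¬ ∀ d ∈ memCent D x a, Commute t d) ∧ (∀ d ∈ memCent D x a, Commute (t * t) d) ∧
      t ∈ Subgroup.normalizer (S.pG P : Set G) := by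
  obtain ⟨s, hs, hne, hsq⟩ := S.exists_moving
  obtain ⟨n, hn, u, hu, hnu⟩ := Subgroup.mem_sup_of_normal_right.1
    (show (⟨s, hs⟩ : S.nGrp) ∈ _ from Sylow.normalizer_sup_eq_top P ▸ Subgroup.mem_top _)
  have hρ : S.rho n = S.rho ⟨s, hs⟩ := by
    rw [← hnu, map_mul, show S.rho u = 1 from hu, mul_one]
  obtain ⟨i, m, hm, hnm⟩ := Nat.exists_eq_pow_mul_and_not_dvd (orderOf_pos n).ne' 2 (by norm_num)
  obtain ⟨k, rfl⟩ := Nat.odd_iff.2 (Nat.two_dvd_ne_zero.1 hm)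
  have hρt : S.rho (n ^ (2 * k + 1)) = S.rho ⟨s, hs⟩ := by
    have h2 : S.rho ⟨s, hs⟩ * S.rho ⟨s, hs⟩ = 1 := by
      rw [← map_mul]
      exact ((S.rho_eq_one_iff ((⟨s, hs⟩ : S.nGrp) * (⟨s, hs⟩ : S.nGrp))).2 hsq :)
    rw [map_pow, hρ, pow_succ, pow_mul, sq, h2, one_pow, one_mul]
  refine ⟨(n ^ (2 * k + 1) : S.nGrp), i, Subtype.prop _, ?_, fun h => hne ?_, ?_, ?_⟩
  · rw [← Subgroup.coe_pow, ← pow_mul, mul_comm, ← hnm, pow_orderOf_eq_one, Subgroup.coe_one]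
  · have h1 := (S.rho_eq_one_iff _).2 h
    rw [hρt] at h1
    exact (S.rho_eq_one_iff _).1 h1
  · have h1 : S.rho (n ^ (2 * k + 1) * n ^ (2 * k + 1)) = 1 := by
      rw [map_mul, hρt, ← map_mul]
      exact ((S.rho_eq_one_iff ((⟨s, hs⟩ : S.nGrp) * (⟨s, hs⟩ : S.nGrp))).2 hsq :)
    exact (S.rho_eq_one_iff _).1 h1
  · have hnorm := Subgroup.pow_mem _ hn (2 * k + 1)
    refine Subgroup.mem_normalizer_iff_map_conj_eq.2 ?_
    have h := congrArg (Subgroup.map S.nGrp.subtype) (Subgroup.mem_normalizer_iff_map_conj_eq.1 hnorm)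
    rw [Subgroup.map_map] at h
    rw [show S.pG P = ((P : Subgroup S.rho.ker).map S.rho.ker.subtype).map S.nGrp.subtype from
      (Subgroup.map_map _ _ _).symm, Subgroup.map_map]
    convert h using 2
    ext z
    rfl

omit [Fact p.Prime]

/-- Trivial on the fixed points of `x`. -/
def Triv (g : G) : Prop :=
  have _ := S
  ∀ z : Ω, x • z = z → g • z = z

theorem triv_mul {g h : G} (hg : S.Triv g) (hh : S.Triv h) : S.Triv (g * h) := fun z hz => by
  rw [mul_smul, hh z hz, hg z hz]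

theorem triv_inv {g : G} (hg : S.Triv g) : S.Triv g⁻¹ := fun z hz => by
  rw [inv_smul_eq_iff, hg z hz]

theorem triv_conj {g h : G} (hh : Commute h x) (hg : S.Triv g) : S.Triv (h * g * h⁻¹) :=
  fun z hz => by
  have h1 : x • h⁻¹ • z = h⁻¹ • z := by rw [smul_smul, ← hh.inv_left.eq, mul_smul, hz]
  rw [mul_smul, mul_smul, hg _ h1, smul_inv_smul]

theorem exists_other : ∃ b : Ω, x • b = b ∧ b ≠ a := by
  obtain ⟨b, hb, hba⟩ := S.loc'.exists_ne
  exact ⟨b, (orbit_loc S.pre S.bad S.fix).1 hb, hba⟩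

theorem not_triv_member {d : G} (hd : d ∈ memCent D x a) : ¬ S.Triv d := fun h => by
  obtain ⟨b, hb, hba⟩ := S.exists_other
  exact hba (S.pre.eq_of_fix hd.1.1 (h b hb) hd.1.2)

theorem eq_one_of_triv_eGrp {w : G} (hw : w ∈ S.eGrp) (ht : S.Triv w) : w = 1 :=
  (S.mem_eGrp.1 hw).resolve_right fun h => S.not_triv_member h ht

/-- No element trivial on the fixed points has this property also after conjugation by `t`. -/
theorem triv_conj_eq_one (P : Sylow 2 S.rho.ker) {t : G} (ht : t ∈ S.nGrp) {i : ℕ}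
    (hti : t ^ 2 ^ i = 1) (hne : ¬ ∀ d ∈ memCent D x a, Commute t d)
    (hsq : ∀ d ∈ memCent D x a, Commute (t * t) d)
    (hN : t ∈ Subgroup.normalizer (S.pG P : Set G)) {g : G} (hg : g ∈ S.pG P) (h1 : S.Triv g)
    (h2 : S.Triv (t * g * t⁻¹)) : g = 1 := by
  haveI := S.min.faithful
  set K : Subgroup G :=
    { carrier := {g | g ∈ S.pG P ∧ S.Triv g ∧ S.Triv (t * g * t⁻¹)}
      one_mem' := ⟨one_mem _, fun z _ => one_smul G z, fun z _ => by rw [mul_one, mul_inv_cancel, one_smul]⟩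
      mul_mem' := fun {u w} hu hw => ⟨mul_mem hu.1 hw.1, S.triv_mul hu.2.1 hw.2.1, by
        rw [show t * (u * w) * t⁻¹ = t * u * t⁻¹ * (t * w * t⁻¹) by group]
        exact S.triv_mul hu.2.2 hw.2.2⟩
      inv_mem' := fun {u} hu => ⟨inv_mem hu.1, S.triv_inv hu.2.1, by
        rw [show t * u⁻¹ * t⁻¹ = (t * u * t⁻¹)⁻¹ by group]
        exact S.triv_inv hu.2.2⟩ } with hKdef
  by_contra hg1
  have hgK : g ∈ K := ⟨hg, h1, h2⟩
  have hK2 : IsPGroup 2 K := (S.pG_isPGroup P).to_le fun u hu => hu.1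
  set H := Subgroup.zpowers t
  have hH : IsPGroup 2 H := by
    obtain ⟨j, -, hj⟩ := (Nat.dvd_prime_pow Nat.prime_two).1 (orderOf_dvd_of_pow_eq_one hti)
    exact IsPGroup.of_card (n := j) (by rw [Nat.card_zpowers, hj])
  have hnorm : H ≤ Subgroup.normalizer (K : Set G) := by
    refine Subgroup.zpowers_le.2 (Subgroup.mem_normalizer_iff_map_conj_eq.2
      (Subgroup.eq_of_le_of_card_ge ?_
        (Subgroup.card_map_of_injective (MulAut.conj t).injective).ge))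
    rintro _ ⟨u, ⟨hu1, hu2, hu3⟩, rfl⟩
    refine ⟨(Subgroup.mem_normalizer_iff.1 hN u).1 hu1, hu3, ?_⟩
    show S.Triv (t * (t * u * t⁻¹) * t⁻¹)
    rw [show t * (t * u * t⁻¹) * t⁻¹ = t * t * u * (t * t)⁻¹ by group]
    exact S.triv_conj (S.comm_x_of_tGrp (S.sq_mem_tGrp ht hsq)) hu2
  letI : MulAction H K :=
    { smul := fun h u => ⟨(h : G) * u * (h : G)⁻¹,
        (Subgroup.mem_normalizer_iff.1 (hnorm h.2) _).1 u.2⟩
      one_smul := fun u => Subtype.ext (show (1 : G) * u * (1 : G)⁻¹ = u by group)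
      mul_smul := fun h h' u => Subtype.ext (show ((h : G) * h') * u * ((h : G) * h')⁻¹ =
        (h : G) * ((h' : G) * u * (h' : G)⁻¹) * (h : G)⁻¹ by group) }
  have h2K : 2 ∣ Nat.card K := by
    obtain ⟨j, hj⟩ := hK2.exists_card_eq
    rcases j with _ | j
    · rw [pow_zero] at hj
      exact absurd (Subgroup.mem_bot.1 ((Subgroup.card_eq_one.1 hj).le hgK)) hg1
    · rw [hj, pow_succ]; exact dvd_mul_left _ _
  obtain ⟨u, hu, hu1⟩ := hH.exists_fixed_point_of_prime_dvd_card_of_fixed_point K h2K (a := 1)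
    (fun h => Subtype.ext (show (h : G) * 1 * (h : G)⁻¹ = 1 by group))
  have hcomm : Commute t (u : G) :=
    mul_inv_eq_iff_eq_mul.1 (congrArg Subtype.val (hu ⟨t, Subgroup.mem_zpowers t⟩))
  obtain ⟨j, hj⟩ := IsPGroup.iff_orderOf.1 hK2 u
  have huo : orderOf (u : G) = 2 ^ j := by rw [Subgroup.orderOf_coe, hj]
  obtain ⟨j', rfl⟩ : ∃ j', j = j' + 1 := ⟨j - 1, by
    have : j ≠ 0 := fun h0 => hu1 (Eq.symm (orderOf_eq_one_iff.1 (by rw [hj, h0, pow_zero])))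
    omega⟩
  set y := (u : G) ^ 2 ^ j' with hy
  have hyK : y ∈ K := K.pow_mem u.2 _
  have hy2 : orderOf y = 2 := by
    rw [hy, orderOf_pow_of_dvd (by positivity) (huo ▸ pow_dvd_pow 2 (Nat.le_succ j')), huo,
      Nat.pow_div (Nat.le_succ j') two_pos, Nat.succ_sub (le_refl j'), Nat.sub_self, pow_one]
  obtain ⟨b, hb, hba⟩ := S.exists_other
  have hya : y • a = a := hyK.2.1 a S.fix
  exact hne (S.centralises_of_bad ⟨hy2, a, b, hba.symm, hya, hyK.2.1 b hb⟩ hya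
    (S.nGrp_fix ⟨t, ht⟩) (hcomm.pow_right _) hti)

theorem card_orbit_eq : Nat.card (orbit (loc D x) a) = 8 ^ e + 1 := by
  have h : orbit (loc D x) a = {z : Ω | x • z = z} :=
    Set.ext fun z => orbit_loc S.pre S.bad S.fix
  rw [h, S.counts.card_fix, S.q_eq]

theorem qOf_eight : qOf (loc D x) a = 8 := S.qOf_eq.trans S.q_eq

/-- A Sylow `2`-subgroup containing a translation group. -/
theorem exists_frame : ∃ (P₀ : Subgroup G) (P : Sylow 2 S.rho.ker),
    Trans D (loc D x) a P₀ ∧ P₀ ≤ S.pG P := by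
  obtain ⟨P₀, hT⟩ := S.loc'.exists_trans S.pre S.four S.hcomm
  have hle : P₀ ≤ S.tGrp := fun g hg => S.mem_tGrp.2 ⟨hT.fix g hg,
    commute_of_mem_loc (hT.le hg), fun d hd => hT.central g hg d (by rwa [memIn_loc])⟩
  obtain ⟨P, hP⟩ := S.exists_sylow hT.two hle
  exact ⟨P₀, P, hT, hP⟩

/-- An involution of a translation group lies in `eGrp`. -/
theorem mem_eGrp_of_trans {P₀ : Subgroup G} (hT : Trans D (loc D x) a P₀) {g : G} (hg : g ∈ P₀)
    (h : g * g = 1) : g ∈ S.eGrp := by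
  rcases hT.sq_one g hg h with h1 | h1
  · exact S.mem_eGrp.2 (Or.inl h1)
  · rw [memIn_loc] at h1; exact S.cent_mem h1

theorem mem_of_eGrp {P₀ : Subgroup G} (hT : Trans D (loc D x) a P₀) {w : G} (hw : w ∈ S.eGrp) :
    w ∈ P₀ := by
  rcases S.mem_eGrp.1 hw with rfl | hd
  exacts [one_mem _, hT.mem w (by rwa [memIn_loc])]

variable (he : e ≠ 3) {P₀ : Subgroup G} (hT : Trans D (loc D x) a P₀)
  {P : Sylow 2 S.rho.ker} (hle : P₀ ≤ S.pG P)
include he hT hle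

theorem exists_decomp {s : G} (hs : s ∈ S.pG P) :
    ∃ g ∈ P₀, ∃ h ∈ S.pG P, S.Triv h ∧ s = g * h := by
  obtain ⟨hsa, hsx, hsB⟩ := S.mem_tGrp.1 (S.pG_le P hs)
  obtain ⟨b, hb, hba⟩ := S.exists_other
  have hbo : b ∈ orbit (loc D x) a := (orbit_loc S.pre S.bad S.fix).2 hb
  have hsb : s • b ∈ orbit (loc D x) a := (orbit_loc S.pre S.bad S.fix).2 (by
    rw [smul_smul, ← hsx.eq, mul_smul, hb])
  obtain ⟨g, ⟨hg, hgb⟩, -⟩ := hT.regular b hbo (s • b) hsb hba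
    (fun h => hba (smul_left_cancel s (h.trans hsa.symm)))
  have hmem : g⁻¹ * s ∈ S.pG P := mul_mem (inv_mem (hle hg)) hs
  obtain ⟨hha, hhx, hhB⟩ := S.mem_tGrp.1 (S.pG_le P hmem)
  have hfix : Fixing D (loc D x) a b (g⁻¹ * s) :=
    ⟨mem_normalizer_loc S.pre hhx, hha, by rw [mul_smul, inv_smul_eq_iff, hgb],
      fun d hd z _ => by
        rw [memIn_loc] at hd
        rw [(hhB d hd).eq]⟩
  have hne : Nat.card (orbit (loc D x) a) ≠ qOf (loc D x) a ^ 3 + 1 := by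
    rw [S.card_orbit_eq, S.qOf_eight]
    intro h
    exact he (Nat.pow_right_injective (by norm_num) (Nat.add_right_cancel h))
  have htriv := S.loc'.fixing_trivial S.pre S.four hne hbo hba hfix
  refine ⟨g, hg, _, hmem, fun z hz => ?_, by group⟩
  rw [htriv z ((orbit_loc S.pre S.bad S.fix).2 hz), one_smul]

/-- The translation group centralises the trivial part. -/
theorem commute_triv {g h : G} (hg : g ∈ P₀) (hh : h ∈ S.pG P) (ht : S.Triv h) : Commute g h := by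
  have hgx : Commute g x := commute_of_mem_loc (hT.le hg)
  have hhN := mem_normalizer_loc S.pre (S.comm_x_of_tGrp (S.pG_le P hh))
  have hY : g * (h * g⁻¹ * h⁻¹) ∈ loc D x :=
    mul_mem (hT.le hg) ((Subgroup.mem_normalizer_iff.1 hhN _).1 (inv_mem (hT.le hg)))
  have hS : SameOn (loc D x) a (g * (h * g⁻¹ * h⁻¹)) 1 := by
    intro z hz
    rw [orbit_loc S.pre S.bad S.fix] at hz
    rw [show g * (h * g⁻¹ * h⁻¹) = g * h * g⁻¹ * h⁻¹ by group, one_smul]
    exact S.triv_mul (S.triv_conj hgx ht) (S.triv_inv ht) z hz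
  have h1 : toImg (loc D x) (orbit (loc D x) a) ⟨_, hY⟩ = 1 :=
    ((Loc.sameOn_iff hY (one_mem _)).1 hS).trans (map_one _)
  have hodd := odd_orderOf_of_toImg S.loc'.se' h1
  rw [Subgroup.orderOf_mk] at hodd
  have hmem : g * (h * g⁻¹ * h⁻¹) ∈ S.pG P :=
    mul_mem (hle hg) (mul_mem (mul_mem hh (inv_mem (hle hg))) (inv_mem hh))
  obtain ⟨j, hj⟩ := IsPGroup.iff_orderOf.1 (S.pG_isPGroup P) ⟨_, hmem⟩
  rw [Subgroup.orderOf_mk] at hj
  rw [hj] at hodd
  have hj0 : j = 0 := by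
    by_contra h0
    exact (Nat.not_even_iff_odd.2 hodd) (Nat.even_pow.2 ⟨even_two, h0⟩)
  rw [hj0, pow_zero, orderOf_eq_one_iff] at hj
  exact mul_inv_eq_one.1 (by rw [← hj]; group : g * h * (h * g)⁻¹ = 1)

variable {t : G} (ht : t ∈ S.nGrp) {i : ℕ} (hti : t ^ 2 ^ i = 1)
  (hne : ¬ ∀ d ∈ memCent D x a, Commute t d) (hsq : ∀ d ∈ memCent D x a, Commute (t * t) d)
  (hN : t ∈ Subgroup.normalizer (S.pG P : Set G))
include ht hti hne hsq hN

/-- The trivial part commutes with its conjugate. -/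
theorem commute_conj {g h : G} (hg : g ∈ S.pG P) (hg1 : S.Triv g) (hh : h ∈ S.pG P)
    (hh1 : S.Triv h) : Commute g (t * h * t⁻¹) := by
  set u := t * h * t⁻¹ with hu
  have hup : u ∈ S.pG P := (Subgroup.mem_normalizer_iff.1 hN h).1 hh
  have hcP : g * u * g⁻¹ * u⁻¹ ∈ S.pG P := mul_mem (mul_mem (mul_mem hg hup) (inv_mem hg)) (inv_mem hup)
  have h1 : S.Triv (g * u * g⁻¹ * u⁻¹) := by
    rw [show g * u * g⁻¹ * u⁻¹ = g * (u * g⁻¹ * u⁻¹) by group]
    exact S.triv_mul hg1 (S.triv_conj (S.comm_x_of_tGrp (S.pG_le P hup)) (S.triv_inv hg1))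
  set g' := t⁻¹ * g * t
  have hg'p : g' ∈ S.pG P := (Subgroup.mem_normalizer_iff''.1 hN g).1 hg
  have h2 : S.Triv (t⁻¹ * (g * u * g⁻¹ * u⁻¹) * t) := by
    rw [show t⁻¹ * (g * u * g⁻¹ * u⁻¹) * t = g' * h * g'⁻¹ * h⁻¹ by simp only [g', hu]; group]
    exact S.triv_mul (S.triv_conj (S.comm_x_of_tGrp (S.pG_le P hg'p)) hh1) (S.triv_inv hh1)
  have := S.triv_conj_eq_one P ht hti hne hsq hN
    ((Subgroup.mem_normalizer_iff''.1 hN _).1 hcP) h2
    (by rw [show t * (t⁻¹ * (g * u * g⁻¹ * u⁻¹) * t) * t⁻¹ = g * u * g⁻¹ * u⁻¹ by group]; exact h1)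
  have h3 : g * u * g⁻¹ * u⁻¹ = 1 := by
    calc g * u * g⁻¹ * u⁻¹ = t * (t⁻¹ * (g * u * g⁻¹ * u⁻¹) * t) * t⁻¹ := by group
      _ = 1 := by rw [this]; group
  exact mul_inv_eq_one.1 (by rw [← h3]; group : g * u * (u * g)⁻¹ = 1)

theorem conj_eGrp {w : G} (hw : w ∈ S.eGrp) : t⁻¹ * w * t ∈ S.eGrp :=
  (Subgroup.mem_normalizer_iff''.1 ht.2.1 _).1 hw

/-- The trivial part is abelian. -/
theorem commute_triv_triv {g h : G} (hg : g ∈ S.pG P) (hg1 : S.Triv g) (hh : h ∈ S.pG P)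
    (hh1 : S.Triv h) : Commute g h := by
  set u := t * g * t⁻¹ with hu
  set w := t * h * t⁻¹ with hw
  obtain ⟨g₂, hg₂, r₂, hr₂, hr₂t, hue⟩ :=
    S.exists_decomp he hT hle ((Subgroup.mem_normalizer_iff.1 hN g).1 hg)
  obtain ⟨g₃, hg₃, r₃, hr₃, hr₃t, hwe⟩ :=
    S.exists_decomp he hT hle ((Subgroup.mem_normalizer_iff.1 hN h).1 hh)
  have hc1 : Commute r₃ u := S.commute_conj he hT hle ht hti hne hsq hN hr₃ hr₃t hg hg1
  have hrr : Commute r₂ r₃ := by
    have h4 : Commute r₃ g₂ := (S.commute_triv he hT hle hg₂ hr₃ hr₃t).symm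
    have h5 := h4.inv_right.mul_right hc1
    rw [hu, hue, inv_mul_cancel_left] at h5
    exact h5.symm
  have h23 : Commute r₂ g₃ := (S.commute_triv he hT hle hg₃ hr₂ hr₂t).symm
  have h32 : Commute g₂ r₃ := S.commute_triv he hT hle hg₂ hr₃ hr₃t
  have h22 : Commute g₂ r₂ := S.commute_triv he hT hle hg₂ hr₂ hr₂t
  have h33 : Commute g₃ r₃ := S.commute_triv he hT hle hg₃ hr₃ hr₃t
  set c := g⁻¹ * h⁻¹ * g * h with hc
  have hconj : t * c * t⁻¹ = g₂⁻¹ * g₃⁻¹ * g₂ * g₃ := by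
    rw [show t * c * t⁻¹ = u⁻¹ * w⁻¹ * u * w by rw [hc, hu, hw]; group, hu, hw, hue, hwe]
    have e1 : (g₂ * r₂)⁻¹ * (g₃ * r₃)⁻¹ = (g₃ * g₂)⁻¹ * (r₃ * r₂)⁻¹ := by
      rw [← mul_inv_rev, ← mul_inv_rev]
      congr 1
      calc g₃ * r₃ * (g₂ * r₂) = g₃ * (r₃ * g₂) * r₂ := by group
        _ = g₃ * (g₂ * r₃) * r₂ := by rw [h32.symm.eq]
        _ = g₃ * g₂ * (r₃ * r₂) := by group
        _ = r₃ * r₂ * (g₃ * g₂) := by
          have : Commute (g₃ * g₂) (r₃ * r₂) :=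
            ((h33.mul_right h23.symm)).mul_left (h32.mul_right h22)
          exact this.eq
    calc (g₂ * r₂)⁻¹ * (g₃ * r₃)⁻¹ * (g₂ * r₂) * (g₃ * r₃)
        = (g₃ * g₂)⁻¹ * (r₃ * r₂)⁻¹ * (g₂ * r₂ * (g₃ * r₃)) := by rw [e1]; group
      _ = (g₃ * g₂)⁻¹ * (r₃ * r₂)⁻¹ * (g₂ * (r₂ * g₃) * r₃) := by group
      _ = (g₃ * g₂)⁻¹ * (r₃ * r₂)⁻¹ * ((g₂ * g₃) * (r₃ * r₂)) := by
        rw [h23.eq, ← hrr.eq]; group
      _ = (g₃ * g₂)⁻¹ * (r₃ * r₂)⁻¹ * ((r₃ * r₂) * (g₂ * g₃)) := by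
        have : Commute (g₂ * g₃) (r₃ * r₂) := (h32.mul_right h22).mul_left (h33.mul_right h23.symm)
        rw [this.eq]
      _ = _ := by group
  have hcT : S.Triv c := by
    rw [hc, show g⁻¹ * h⁻¹ * g * h = g⁻¹ * h⁻¹ * g * h from rfl]
    exact S.triv_mul (S.triv_mul (S.triv_mul (S.triv_inv hg1) (S.triv_inv hh1)) hg1) hh1
  have hcE : t * c * t⁻¹ ∈ S.eGrp := by
    rw [hconj]
    exact S.mem_eGrp_of_trans hT (mul_mem (mul_mem (mul_mem (inv_mem hg₂) (inv_mem hg₃)) hg₂) hg₃)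
      (hT.comm_mem g₂ hg₂ g₃ hg₃)
  have hcE' := S.conj_eGrp he hT hle ht hti hne hsq hN hcE
  rw [show t⁻¹ * (t * c * t⁻¹) * t = c by group] at hcE'
  have hc0 := S.eq_one_of_triv_eGrp hcE' hcT
  exact mul_left_cancel (a := g⁻¹ * h⁻¹) (by
    calc g⁻¹ * h⁻¹ * (g * h) = c := by rw [hc]; group
      _ = g⁻¹ * h⁻¹ * (h * g) := by rw [hc0]; group)

/-- If `P₀` has centre `eGrp`, the trivial part has exponent two and is moved into `eGrp` times
itself. -/
theorem triv_sq (hZ : ∀ g ∈ P₀, (∀ h ∈ P₀, Commute g h) → g ∈ S.eGrp) {g : G}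
    (hg : g ∈ S.pG P) (hg1 : S.Triv g) :
    g * g = 1 ∧ ∃ w ∈ S.eGrp, ∃ h ∈ S.pG P, S.Triv h ∧ t * g * t⁻¹ = w * h := by
  have key : ∀ k ∈ S.pG P, S.Triv k →
      ∃ w ∈ S.eGrp, ∃ h ∈ S.pG P, S.Triv h ∧ t * k * t⁻¹ = w * h := by
    intro k hk hk1
    obtain ⟨w, hw, h, hh, hh1, hwe⟩ :=
      S.exists_decomp he hT hle ((Subgroup.mem_normalizer_iff.1 hN k).1 hk)
    have hcen : ∀ v ∈ S.pG P, Commute (t * k * t⁻¹) v := by
      intro v hv
      obtain ⟨v₀, hv₀, r₀, hr₀, hr₀t, hve⟩ :=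
        S.exists_decomp he hT hle ((Subgroup.mem_normalizer_iff''.1 hN v).1 hv)
      have h1 : Commute k (t⁻¹ * v * t) := by
        rw [hve]
        exact (S.commute_triv he hT hle hv₀ hk hk1).symm.mul_right
          (S.commute_triv_triv he hT hle ht hti hne hsq hN hk hk1 hr₀ hr₀t)
      show t * k * t⁻¹ * v = v * (t * k * t⁻¹)
      calc t * k * t⁻¹ * v = t * (k * (t⁻¹ * v * t)) * t⁻¹ := by group
        _ = v * (t * k * t⁻¹) := by rw [h1.eq]; group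
    refine ⟨w, hZ w hw fun v hv => ?_, h, hh, hh1, hwe⟩
    have h2 := (hcen v (hle hv))
    have h3 : Commute h⁻¹ v := (S.commute_triv he hT hle hv hh hh1).symm.inv_left
    have h4 := h2.mul_left h3
    rwa [hwe, mul_inv_cancel_right] at h4
  refine ⟨?_, key g hg hg1⟩
  obtain ⟨w, hw, h, hh, hh1, hwe⟩ := key g hg hg1
  refine S.triv_conj_eq_one P ht hti hne hsq hN (mul_mem hg hg) (S.triv_mul hg1 hg1) ?_
  rw [show t * (g * g) * t⁻¹ = (t * g * t⁻¹) * (t * g * t⁻¹) by group, hwe,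
    show w * h * (w * h) = w * (h * w) * h by group,
    (S.comm_E_of_tGrp (S.pG_le P hh) hw).eq,
    show w * (w * h) * h = (w * w) * (h * h) by group, S.sq_one hw, one_mul]
  exact S.triv_mul hh1 hh1

end Cfsg.Agent.Lib.Crit5.Pure.Setting
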